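import Mathlib
set_option linter.all false

/-!
# Bases of eigenvectors
-/

set_option autoImplicit false

namespace Cfsg.Agent.H956.EigBasis

open Matrix Polynomial Module

section gen

variable {K V : Type*} [Field K] [AddCommGroup V] [Module K V]

/-- If the eigenspaces span there is a basis of eigenvectors. -/
theorem exists_eigenbasis [FiniteDimensional K V] (f : End K V) (htop : ⨆ a, f.eigenspace a = ⊤) {κ : Type*}
    [Fintype κ] (hκ : Fintype.card κ = finrank K V) :
    ∃ (b : Basis κ K V) (d : κ → K), ∀ i, f (b i) = d i • b i := by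
  classical
  have hint : DirectSum.IsInternal (fun a : K => f.eigenspace a) :=
    (DirectSum.isInternal_submodule_iff_iSupIndep_and_iSup_eq_top _).2 ⟨f.eigenspaces_iSupIndep, htop⟩
  let b0 := hint.collectedBasis (fun a => Module.Free.chooseBasis K (f.eigenspace a))
  have hfin : Finite (Σ a : K, Module.Free.ChooseBasisIndex K (f.eigenspace a)) := Module.Finite.finite_basis b0
  obtain ⟨_⟩ := nonempty_fintype (Σ a : K, Module.Free.ChooseBasisIndex K (f.eigenspace a))
  have hcard : Fintype.card (Σ a : K, Module.Free.ChooseBasisIndex K (f.eigenspace a)) = Fintype.card κ := by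
    rw [hκ, Module.finrank_eq_card_basis b0]
  let e := Fintype.equivOfCardEq hcard
  refine ⟨b0.reindex e, fun i => (e.symm i).1, fun i => ?_⟩
  rw [Basis.reindex_apply]
  have hmem := hint.collectedBasis_mem (fun a => Module.Free.chooseBasis K (f.eigenspace a)) (e.symm i)
  exact Module.End.mem_eigenspace_iff.1 hmem

/-- Eigenspaces span if the operator is killed by a product of distinct linear factors. -/
theorem iSup_eigenspace_of_prod (f : End K V) (S : Finset K)
    (h : aeval f (∏ a ∈ S, (X - C a)) = 0) : ⨆ a, f.eigenspace a = ⊤ := by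
  classical
  have key : ∀ S : Finset K, LinearMap.ker (aeval f (∏ a ∈ S, (X - C a))) ≤ ⨆ a, f.eigenspace a := by
    intro S
    induction S using Finset.induction_on with
    | empty =>
      intro v hv
      simp at hv
      simp [hv]
    | insert a S ha ih =>
      rw [Finset.prod_insert ha]
      have hco : IsCoprime (X - C a) (∏ a ∈ S, (X - C a)) := by
        refine IsCoprime.prod_right fun b hb => ?_
        exact isCoprime_X_sub_C_of_isUnit_sub (by
          rw [isUnit_iff_ne_zero, sub_ne_zero]
          rintro rfl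
          exact ha hb)
      rw [← Polynomial.sup_ker_aeval_eq_ker_aeval_mul_of_coprime f hco]
      refine sup_le ?_ ih
      refine le_trans ?_ (le_iSup _ a)
      intro v hv
      rw [Module.End.mem_eigenspace_iff]
      simpa [sub_eq_zero] using hv
  have := key S
  rw [h, LinearMap.ker_zero] at this
  exact top_le_iff.1 this

/-- An operator with `f ^ r = t ^ r`, where there is a primitive `r`-th root of unity, is diagonalisable. -/
theorem iSup_eigenspace_of_pow {r : ℕ} (hr : 0 < r) {ζ : K} (hζ : IsPrimitiveRoot ζ r) (f : End K V) {t : K} (ht : t ≠ 0)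
    (h : f ^ r = (t ^ r) • (1 : End K V)) : ⨆ a, f.eigenspace a = ⊤ := by
  classical
  have hprod : (X ^ r - C (t ^ r) : K[X]) = ∏ a ∈ (Finset.range r).image (fun i => ζ ^ i * t), (X - C a) := by
    rw [X_pow_sub_C_eq_prod hζ hr (α := t) rfl, Finset.prod_image]
    intro i hi j hj hij
    simp only [Finset.coe_range, Set.mem_Iio] at hi hj
    exact hζ.pow_inj hi hj (mul_right_cancel₀ ht hij)
  refine iSup_eigenspace_of_prod f ((Finset.range r).image (fun i => ζ ^ i * t)) ?_
  rw [← hprod]
  rw [map_sub, map_pow, aeval_X, aeval_C, h, Algebra.algebraMap_eq_smul_one, sub_self]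

end gen

section mat

variable {ι : Type*} [Fintype ι] [DecidableEq ι] {K : Type*} [Field K]

/-- Matrix version: a matrix whose eigenspaces span is `S * diagonal d * S⁻¹`. -/
theorem exists_conj_diagonal (A : Matrix ι ι K) (htop : ⨆ a, Module.End.eigenspace (Matrix.toLin' A) a = ⊤) :
    ∃ (S : GL ι K) (d : ι → K), A = (S : Matrix ι ι K) * Matrix.diagonal d * ((S⁻¹ : GL ι K) : Matrix ι ι K) := by
  obtain ⟨b, d, hbd⟩ := exists_eigenbasis (Matrix.toLin' A) htop (κ := ι) (by simp)
  let P : Matrix ι ι K := fun i j => b j i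
  have hP : P = (Pi.basisFun K ι).toMatrix b := by
    ext i j
    simp [P, Basis.toMatrix_apply]
  have hinv : (Pi.basisFun K ι).toMatrix b * b.toMatrix (Pi.basisFun K ι) = 1 :=
    Basis.toMatrix_mul_toMatrix_flip _ _
  have hinv' : b.toMatrix (Pi.basisFun K ι) * (Pi.basisFun K ι).toMatrix b = 1 :=
    Basis.toMatrix_mul_toMatrix_flip _ _
  let S : GL ι K := ⟨P, b.toMatrix (Pi.basisFun K ι), by rw [hP]; exact hinv, by rw [hP]; exact hinv'⟩
  refine ⟨S, d, ?_⟩
  have h1 : A * P = P * Matrix.diagonal d := by
    ext i j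
    rw [Matrix.mul_diagonal]
    have := congrFun (hbd j) i
    rw [Matrix.toLin'_apply] at this
    simp only [Pi.smul_apply, smul_eq_mul] at this
    rw [mul_comm (P i j)]
    exact this
  have h2 : A * (S : Matrix ι ι K) = (S : Matrix ι ι K) * Matrix.diagonal d := h1
  rw [← h2, Matrix.mul_assoc, ← Units.val_mul, mul_inv_cancel, Units.val_one, Matrix.mul_one]

end mat

end Cfsg.Agent.H956.EigBasis
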