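import Mathlib
import Cfsg.Agent.H956.EigBasis
set_option linter.all false

/-!
# Eigenvalue multisets of matrices over a field, in an algebraically closed extension

`eig E A` : the multiset of the eigenvalues of `A` in the algebraically closed field `E`.
* `eig_conj`, `eig_reindex`, `eig_transpose`, `card_eig`, `eig_frob` (Frobenius invariance);
* `exists_diag`: a matrix with `A ^ r = s`, `r ≠ 0` in `F`, `s ≠ 0`, is diagonalisable over `E`;
* `eig_kronecker`: eigenvalues of Kronecker products of diagonalisable matrices.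
-/

set_option autoImplicit false

namespace Cfsg.Agent.H956.EigMult

open Matrix Polynomial
open scoped Kronecker

section basic

variable {ι κ : Type*} [Fintype ι] [DecidableEq ι] [Fintype κ] [DecidableEq κ]
variable {F : Type*} [Field F] (E : Type*) [Field E] [Algebra F E]

/-- The multiset of the eigenvalues of `A` in `E` (roots of the characteristic polynomial). -/
noncomputable def eig (A : Matrix ι ι F) : Multiset E := (A.charpoly.map (algebraMap F E)).roots

variable {E}

theorem eig_conj (P : GL ι F) (A : Matrix ι ι F) :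
    eig E ((P : Matrix ι ι F) * A * ((P⁻¹ : GL ι F) : Matrix ι ι F)) = eig E A := by
  unfold eig
  rw [Matrix.coe_units_inv, Matrix.charpoly_units_conj]

theorem eig_conj' (P : GL ι F) (A : Matrix ι ι F) :
    eig E (((P⁻¹ : GL ι F) : Matrix ι ι F) * A * (P : Matrix ι ι F)) = eig E A := by
  have := eig_conj (E := E) P⁻¹ A
  rwa [inv_inv] at this

theorem eig_reindex (e : ι ≃ κ) (A : Matrix ι ι F) : eig E (Matrix.reindex e e A) = eig E A := by
  unfold eig
  rw [Matrix.charpoly_reindex]

theorem eig_transpose (A : Matrix ι ι F) : eig E Aᵀ = eig E A := by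
  unfold eig
  rw [Matrix.charpoly_transpose]

theorem card_eig [IsAlgClosed E] (A : Matrix ι ι F) : Multiset.card (eig E A) = Fintype.card ι := by
  unfold eig
  rw [← Polynomial.Splits.natDegree_eq_card_roots (IsAlgClosed.splits _), natDegree_map,
    Matrix.charpoly_natDegree_eq_dim]

theorem eig_map (A : Matrix ι ι F) : eig E A = eig E (A.map (algebraMap F E)) := by
  unfold eig
  rw [Matrix.charpoly_map, Algebra.algebraMap_self, Polynomial.map_id]

theorem eig_diagonal (d : ι → F) :
    eig E (Matrix.diagonal d) = Finset.univ.val.map (fun i => algebraMap F E (d i)) := by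
  unfold eig
  rw [Matrix.charpoly_diagonal, Polynomial.map_prod]
  simp only [Polynomial.map_sub, Polynomial.map_X, Polynomial.map_C]
  rw [Polynomial.roots_prod]
  · simp [Multiset.bind_singleton]
  · exact Finset.prod_ne_zero_iff.2 fun i _ => X_sub_C_ne_zero _

/-- eigenvalues of a matrix which is diagonal in some basis of `E`. -/
theorem eig_of_diag (A : Matrix ι ι F) (S : GL ι E) (d : ι → E)
    (h : A.map (algebraMap F E) = (S : Matrix ι ι E) * Matrix.diagonal d * ((S⁻¹ : GL ι E) : Matrix ι ι E)) :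
    eig E A = Finset.univ.val.map d := by
  rw [eig_map, h, eig_conj, eig_diagonal]
  simp

/-- eigenvalues of a block diagonal matrix. -/
theorem eig_fromBlocks (A : Matrix ι ι F) (B : Matrix κ κ F) :
    eig E (Matrix.fromBlocks A 0 0 B) = eig E A + eig E B := by
  unfold eig
  rw [Matrix.charpoly_fromBlocks_zero₁₂, Polynomial.map_mul, Polynomial.roots_mul]
  refine mul_ne_zero ?_ ?_ <;>
  exact (Polynomial.map_ne_zero_iff (algebraMap F E).injective).2 (Matrix.charpoly_monic _).ne_zero

theorem eig_scalar (c : F) : eig E (c • (1 : Matrix ι ι F)) = Multiset.replicate (Fintype.card ι) (algebraMap F E c) := by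
  have h : c • (1 : Matrix ι ι F) = Matrix.diagonal (fun _ => c) := by
    rw [← Matrix.diagonal_one, ← Matrix.diagonal_smul]
    congr 1
    ext i
    simp
  rw [h, eig_diagonal]
  simp

/-- a matrix with two different eigenvalues is not scalar. -/
theorem ne_scalar_of_mem {A : Matrix ι ι F} {z w : E} (hz : z ∈ eig E A) (hw : w ∈ eig E A) (hzw : z ≠ w) (c : F) :
    A ≠ c • (1 : Matrix ι ι F) := by
  rintro rfl
  rw [eig_scalar] at hz hw
  exact hzw ((Multiset.eq_of_mem_replicate hz).trans (Multiset.eq_of_mem_replicate hw).symm)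

theorem eig_one : eig E (1 : Matrix ι ι F) = Multiset.replicate (Fintype.card ι) 1 := by
  rw [← Matrix.diagonal_one, eig_diagonal]
  simp

end basic

section pow

variable {ι κ : Type*} [Fintype ι] [DecidableEq ι] [Fintype κ] [DecidableEq κ]
variable {F : Type*} [Field F] (E : Type*) [Field E] [Algebra F E] [IsAlgClosed E]

/-- A matrix with a scalar power `A ^ r = s`, `r` prime to the characteristic, is diagonalisable over `E`. -/
theorem exists_diag {r : ℕ} (hr : (r : F) ≠ 0) {s : F} (hs : s ≠ 0) (A : Matrix ι ι F)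
    (hA : A ^ r = s • (1 : Matrix ι ι F)) :
    ∃ (S : GL ι E) (d : ι → E),
      A.map (algebraMap F E) = (S : Matrix ι ι E) * Matrix.diagonal d * ((S⁻¹ : GL ι E) : Matrix ι ι E) ∧
      ∀ i, d i ^ r = algebraMap F E s := by
  have hrE : (r : E) ≠ 0 := by
    intro h
    apply hr
    apply (algebraMap F E).injective
    rw [map_natCast, h, map_zero]
  have hr0 : 0 < r := Nat.pos_of_ne_zero (by rintro rfl; simp at hr)
  have : NeZero (r : E) := ⟨hrE⟩
  obtain ⟨ζ, hζ⟩ := HasEnoughRootsOfUnity.exists_primitiveRoot E r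
  obtain ⟨t, ht⟩ := IsAlgClosed.exists_pow_nat_eq (algebraMap F E s) hr0
  have ht0 : t ≠ 0 := by
    rintro rfl
    rw [zero_pow hr0.ne'] at ht
    exact hs ((algebraMap F E).injective (by rw [← ht, map_zero]))
  have hpow : (A.map (algebraMap F E)) ^ r = (algebraMap F E s) • (1 : Matrix ι ι E) := by
    have h1 : (A.map (algebraMap F E)) ^ r = (A ^ r).map (algebraMap F E) :=
      (map_pow (algebraMap F E).mapMatrix A r).symm
    rw [h1, hA]
    ext i j
    rw [Matrix.map_apply, Matrix.smul_apply, Matrix.smul_apply, Matrix.one_apply, Matrix.one_apply]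
    split_ifs <;> simp
  have htop : ⨆ a, Module.End.eigenspace (Matrix.toLin' (A.map (algebraMap F E))) a = ⊤ := by
    refine EigBasis.iSup_eigenspace_of_pow hr0 hζ _ ht0 ?_
    rw [← Matrix.toLin'_pow, hpow, ht, map_smul, Matrix.toLin'_one]
    rfl
  obtain ⟨S, d, hSd⟩ := EigBasis.exists_conj_diagonal _ htop
  refine ⟨S, d, hSd, ?_⟩
  have hSpow : ∀ k : ℕ, (A.map (algebraMap F E)) ^ k =
      (S : Matrix ι ι E) * Matrix.diagonal (fun i => d i ^ k) * ((S⁻¹ : GL ι E) : Matrix ι ι E) := by
    intro k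
    induction k with
    | zero => simp
    | succ k ih =>
      rw [pow_succ, ih]
      nth_rewrite 1 [hSd]
      have hSS : ((S⁻¹ : GL ι E) : Matrix ι ι E) * (S : Matrix ι ι E) = 1 := by
        rw [← Units.val_mul, inv_mul_cancel, Units.val_one]
      calc (S : Matrix ι ι E) * Matrix.diagonal (fun i => d i ^ k) * ((S⁻¹ : GL ι E) : Matrix ι ι E) *
            ((S : Matrix ι ι E) * Matrix.diagonal d * ((S⁻¹ : GL ι E) : Matrix ι ι E))
          = (S : Matrix ι ι E) * Matrix.diagonal (fun i => d i ^ k) *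
            (((S⁻¹ : GL ι E) : Matrix ι ι E) * (S : Matrix ι ι E)) * Matrix.diagonal d *
              ((S⁻¹ : GL ι E) : Matrix ι ι E) := by simp only [Matrix.mul_assoc]
        _ = _ := by
          rw [hSS, Matrix.mul_one, Matrix.mul_assoc (S : Matrix ι ι E), Matrix.diagonal_mul_diagonal]
          simp only [pow_succ]
  have h2 := hSpow r
  rw [hpow] at h2
  have h3 : Matrix.diagonal (fun i => d i ^ r) = (algebraMap F E s) • (1 : Matrix ι ι E) := by
    have hSS : ((S⁻¹ : GL ι E) : Matrix ι ι E) * (S : Matrix ι ι E) = 1 := by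
      rw [← Units.val_mul, inv_mul_cancel, Units.val_one]
    have h4 : ((S⁻¹ : GL ι E) : Matrix ι ι E) * (algebraMap F E s • (1 : Matrix ι ι E)) * (S : Matrix ι ι E) =
      ((S⁻¹ : GL ι E) : Matrix ι ι E) * ((S : Matrix ι ι E) * Matrix.diagonal (fun i => d i ^ r) *
        ((S⁻¹ : GL ι E) : Matrix ι ι E)) * (S : Matrix ι ι E) := by rw [h2]
    rw [Matrix.mul_smul, Matrix.smul_mul, Matrix.mul_one, hSS] at h4
    rw [h4]
    calc Matrix.diagonal (fun i => d i ^ r)
        = (((S⁻¹ : GL ι E) : Matrix ι ι E) * (S : Matrix ι ι E)) * Matrix.diagonal (fun i => d i ^ r) *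
          (((S⁻¹ : GL ι E) : Matrix ι ι E) * (S : Matrix ι ι E)) := by rw [hSS, Matrix.one_mul, Matrix.mul_one]
      _ = _ := by simp only [Matrix.mul_assoc]
  intro i
  have h5 := congrFun (congrFun h3 i) i
  simpa using h5

variable {E}

/-- The eigenvalues of such a matrix: multiset form. -/
theorem pow_eq_of_mem_eig {r : ℕ} (hr : (r : F) ≠ 0) {s : F} (hs : s ≠ 0) (A : Matrix ι ι F)
    (hA : A ^ r = s • (1 : Matrix ι ι F)) {z : E} (hz : z ∈ eig E A) : z ^ r = algebraMap F E s := by
  obtain ⟨S, d, hSd, hd⟩ := exists_diag E hr hs A hA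
  rw [eig_of_diag A S d hSd] at hz
  obtain ⟨i, -, rfl⟩ := Multiset.mem_map.1 hz
  exact hd i

theorem kronecker_map {ι κ F E : Type*} [Field F] [Field E] (A : Matrix ι ι F) (B : Matrix κ κ F) (f : F →+* E) :
    (A ⊗ₖ B).map f = (A.map f) ⊗ₖ (B.map f) := by
  ext ⟨i, j⟩ ⟨k, l⟩
  simp [Matrix.kroneckerMap_apply]

/-- eigenvalues of a Kronecker product of diagonalisable matrices -/
theorem eig_kronecker (A : Matrix ι ι F) (B : Matrix κ κ F) (S : GL ι E) (d : ι → E) (T : GL κ E) (d' : κ → E)
    (hA : A.map (algebraMap F E) = (S : Matrix ι ι E) * Matrix.diagonal d * ((S⁻¹ : GL ι E) : Matrix ι ι E))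
    (hB : B.map (algebraMap F E) = (T : Matrix κ κ E) * Matrix.diagonal d' * ((T⁻¹ : GL κ E) : Matrix κ κ E)) :
    eig E (A ⊗ₖ B) = Finset.univ.val.map (fun p : ι × κ => d p.1 * d' p.2) := by
  have hSS : ((S : Matrix ι ι E)) * ((S⁻¹ : GL ι E) : Matrix ι ι E) = 1 := by
    rw [← Units.val_mul, mul_inv_cancel, Units.val_one]
  have hTT : ((T : Matrix κ κ E)) * ((T⁻¹ : GL κ E) : Matrix κ κ E) = 1 := by
    rw [← Units.val_mul, mul_inv_cancel, Units.val_one]
  have hSS' : ((S⁻¹ : GL ι E) : Matrix ι ι E) * ((S : Matrix ι ι E)) = 1 := by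
    rw [← Units.val_mul, inv_mul_cancel, Units.val_one]
  have hTT' : ((T⁻¹ : GL κ E) : Matrix κ κ E) * ((T : Matrix κ κ E)) = 1 := by
    rw [← Units.val_mul, inv_mul_cancel, Units.val_one]
  let U : GL (ι × κ) E := ⟨(S : Matrix ι ι E) ⊗ₖ (T : Matrix κ κ E),
    ((S⁻¹ : GL ι E) : Matrix ι ι E) ⊗ₖ ((T⁻¹ : GL κ E) : Matrix κ κ E),
    by rw [← Matrix.mul_kronecker_mul, hSS, hTT, Matrix.one_kronecker_one],
    by rw [← Matrix.mul_kronecker_mul, hSS', hTT', Matrix.one_kronecker_one]⟩
  refine eig_of_diag _ U _ ?_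
  rw [kronecker_map, hA, hB, Matrix.mul_kronecker_mul, Matrix.mul_kronecker_mul, Matrix.diagonal_kronecker_diagonal]
  rfl

end pow

section frob

variable {ι : Type*} [Fintype ι] [DecidableEq ι]
variable {F : Type*} [Field F] [Fintype F] {E : Type*} [Field E] [Algebra F E] [IsAlgClosed E]

/-- General form: if `φ` is an endomorphism of `E` inducing `σ` on `F`, the eigenvalues of `A.map σ` are the images
under `φ` of the eigenvalues of `A`. -/
theorem eig_map_of_ringHom {F : Type*} [Field F] {E : Type*} [Field E] [Algebra F E] [IsAlgClosed E]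
    (σ : F →+* F) (φ : E →+* E) (h : ∀ a, φ (algebraMap F E a) = algebraMap F E (σ a)) (A : Matrix ι ι F) :
    eig E (A.map σ) = (eig E A).map φ := by
  unfold eig
  rw [Matrix.charpoly_map, Polynomial.map_map]
  have h1 : (algebraMap F E).comp σ = φ.comp (algebraMap F E) := by
    ext a
    simp [h]
  rw [h1, ← Polynomial.map_map, Polynomial.Splits.roots_map (IsAlgClosed.splits _)]

/-- The multiset of eigenvalues is invariant under the Frobenius map `z ↦ z ^ q`. -/
theorem eig_frob {q : ℕ} (hq : Fintype.card F = q) (A : Matrix ι ι F) :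
    (eig E A).map (fun z => z ^ q) = eig E A := by
  obtain ⟨p, hp⟩ := CharP.exists F
  have := hp
  have : Fact p.Prime := ⟨CharP.char_is_prime F p⟩
  obtain ⟨⟨n, hn⟩, hn2⟩ := FiniteField.card F p
  have : CharP E p := charP_of_injective_algebraMap (algebraMap F E).injective p
  have hq' : q = p ^ n := by rw [← hq]; exact hn2.2
  have h := eig_map_of_ringHom (E := E) (RingHom.id F) (iterateFrobenius E p n) (fun a => by
    rw [iterateFrobenius_def, ← map_pow, ← hq', ← hq, FiniteField.pow_card]
    rfl) A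
  have h2 : A.map (RingHom.id F) = A := by ext i j; simp
  rw [h2] at h
  conv_rhs => rw [h]
  refine Multiset.map_congr rfl fun z _ => ?_
  rw [iterateFrobenius_def, hq']

end frob

end Cfsg.Agent.H956.EigMult
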