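import Mathlib
import Cfsg.Prelude.Def_GeometricClasses
import Cfsg.Agent.H956.Conj
import Cfsg.Agent.H956.EigDual
import Cfsg.Agent.LieClassical.HermBasic
import Cfsg.Agent.ClassicalGeometry.HermOrthonormal
set_option linter.all false

/-!
# Similarities of non-degenerate unitary forms on `F^n`, `|F| = q₀ ^ 2`
-/

set_option autoImplicit false

namespace Cfsg.Agent.H956.UnitSim

open Matrix Polynomial
open scoped MatrixGroups
open Cfsg.Agent.LieClassical.HermBasic Cfsg.Agent.H956.Conj Cfsg.Agent.H956.EigMult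

variable {F : Type*} [Field F] [Fintype F] {q₀ n : ℕ}

section basic

variable {f : (Fin n → F) → (Fin n → F) → F}

theorem add_right (hF : Fintype.card F = q₀ ^ 2) (hf : Cfsg.Geo.IsUnitaryFormPow q₀ f) (u v w : Fin n → F) :
    f u (v + w) = f u v + f u w := by
  rw [hf.herm u, hf.add_left, add_pow_q hF, ← hf.herm, ← hf.herm]

theorem smul_right (hf : Cfsg.Geo.IsUnitaryFormPow q₀ f) (c : F) (u v : Fin n → F) :
    f u (c • v) = c ^ q₀ * f u v := by
  rw [hf.herm u, hf.smul_left, mul_pow, ← hf.herm]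

/-- the semilinear form attached to `f` (arguments exchanged) -/
noncomputable def toSesq (hF : Fintype.card F = q₀ ^ 2) (hf : Cfsg.Geo.IsUnitaryFormPow q₀ f) :
    (Fin n → F) →ₛₗ[((conj hF : F ≃+* F) : F →+* F)] (Fin n → F) →ₗ[F] F :=
  LinearMap.mk₂'ₛₗ ((conj hF : F ≃+* F) : F →+* F) (RingHom.id F) (fun u v => f v u)
    (fun u u' v => add_right hF hf v u u') (fun c u v => smul_right hf c v u)
    (fun u v v' => hf.add_left v v' u) (fun c u v => hf.smul_left c v u)

theorem toSesq_apply (hF : Fintype.card F = q₀ ^ 2) (hf : Cfsg.Geo.IsUnitaryFormPow q₀ f) (u v : Fin n → F) :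
    toSesq hF hf u v = f v u := rfl

theorem sum_left (hf : Cfsg.Geo.IsUnitaryFormPow q₀ f) {κ : Type*} (s : Finset κ) (a : κ → F)
    (b : κ → Fin n → F) (v : Fin n → F) : f (∑ i ∈ s, a i • b i) v = ∑ i ∈ s, a i * f (b i) v := by
  classical
  induction s using Finset.induction_on with
  | empty =>
    simp only [Finset.sum_empty]
    have := hf.smul_left 0 0 v
    rw [zero_smul, zero_mul] at this
    exact this
  | insert i s hi ih => rw [Finset.sum_insert hi, Finset.sum_insert hi, hf.add_left, hf.smul_left, ih]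

theorem sum_right (hF : Fintype.card F = q₀ ^ 2) (hf : Cfsg.Geo.IsUnitaryFormPow q₀ f) {κ : Type*} (s : Finset κ)
    (a : κ → F) (b : κ → Fin n → F) (v : Fin n → F) :
    f v (∑ i ∈ s, a i • b i) = ∑ i ∈ s, (a i) ^ q₀ * f v (b i) := by
  rw [hf.herm, sum_left hf, sum_pow_q hF]
  refine Finset.sum_congr rfl fun i _ => ?_
  rw [mul_pow, ← hf.herm]

/-- **Every non-degenerate unitary form is the standard one after a change of basis.** -/
theorem exists_frame (hF : Fintype.card F = q₀ ^ 2) (hf : Cfsg.Geo.IsUnitaryFormPow q₀ f) :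
    ∃ P : GL (Fin n) F, ∀ u v : Fin n → F, f ((P : Matrix (Fin n) (Fin n) F) *ᵥ u)
      ((P : Matrix (Fin n) (Fin n) F) *ᵥ v) = Cfsg.hermForm n F q₀ u v := by
  classical
  have hne : ((conj hF : F ≃+* F) : F →+* F) ≠ RingHom.id F := by
    intro h
    obtain ⟨x, hx⟩ := exists_not_fixed hF
    exact hx (by have := RingHom.congr_fun h x; simpa [conj_apply] using this)
  obtain ⟨b, hb⟩ := Cfsg.Agent.ClassicalGeometry.HermOrthonormal.exists_orthonormal_basis hne
    (fun a => by simp [conj_apply, pow_q_pow_q hF]) (toSesq hF hf)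
    ⟨fun u v => by
      change (f v u) ^ q₀ = f u v
      exact (hf.herm u v).symm⟩
    (by
      intro u hu
      by_contra hu0
      obtain ⟨⟨x, hx⟩, -⟩ := hf.nondegenerate u hu0
      exact hx (hu x))
  have hfin : Module.finrank F (Fin n → F) = n := by simp
  let b' : Module.Basis (Fin n) F (Fin n → F) := b.reindex (finCongr hfin)
  have hb' : ∀ i j, f (b' i) (b' j) = if i = j then 1 else 0 := by
    intro i j
    have := hb ((finCongr hfin).symm j) ((finCongr hfin).symm i)
    rw [toSesq_apply] at this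
    simp only [b', Module.Basis.reindex_apply]
    rw [this]
    simp [eq_comm]
  let M : Matrix (Fin n) (Fin n) F := fun i j => b' j i
  have hM : M = (Pi.basisFun F (Fin n)).toMatrix b' := by
    ext i j
    simp [M, Module.Basis.toMatrix_apply]
  let P : GL (Fin n) F := ⟨M, b'.toMatrix (Pi.basisFun F (Fin n)),
    by rw [hM]; exact Module.Basis.toMatrix_mul_toMatrix_flip _ _,
    by rw [hM]; exact Module.Basis.toMatrix_mul_toMatrix_flip _ _⟩
  have hP : ∀ u : Fin n → F, (P : Matrix (Fin n) (Fin n) F) *ᵥ u = ∑ j, u j • b' j := by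
    intro u
    ext i
    change (M *ᵥ u) i = _
    simp [M, Matrix.mulVec, dotProduct, mul_comm]
  refine ⟨P, fun u v => ?_⟩
  rw [hP, hP, sum_left hf, herm_def]
  refine Finset.sum_congr rfl fun i _ => ?_
  rw [sum_right hF hf]
  simp [hb']

/-- `c ^ q₀ = c` for the multiplier of a similarity. -/
theorem mult_fixed (hf : Cfsg.Geo.IsUnitaryFormPow q₀ f) {x : Matrix (Fin n) (Fin n) F}
    {c : F} (h : ∀ u v, f (x *ᵥ u) (x *ᵥ v) = c * f u v) (hn : 0 < n) : c ^ q₀ = c := by
  have hne : (Pi.single (⟨0, hn⟩ : Fin n) (1 : F) : Fin n → F) ≠ 0 := by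
    intro h0
    have := congrFun h0 ⟨0, hn⟩
    simp at this
  obtain ⟨-, w, hw⟩ := hf.nondegenerate _ hne
  have h1 := h (Pi.single (⟨0, hn⟩ : Fin n) (1 : F)) w
  rw [hf.herm, h, mul_pow, ← hf.herm] at h1
  exact mul_right_cancel₀ hw h1

/-- similarity groups of two non-degenerate unitary forms are conjugate (elementwise form). -/
theorem sim_conj (hF : Fintype.card F = q₀ ^ 2) (hf : Cfsg.Geo.IsUnitaryFormPow q₀ f)
    {f' : (Fin n → F) → (Fin n → F) → F} (hf' : Cfsg.Geo.IsUnitaryFormPow q₀ f') :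
    ∃ g : GL (Fin n) F, ∀ x ∈ Cfsg.Geo.similarityGroup f', g⁻¹ * x * g ∈ Cfsg.Geo.similarityGroup f := by
  obtain ⟨P, hP⟩ := exists_frame hF hf
  obtain ⟨P', hP'⟩ := exists_frame hF hf'
  refine ⟨P' * P⁻¹, fun x hx => ?_⟩
  obtain ⟨c, hc⟩ := hx
  refine ⟨c, fun u v => ?_⟩
  have e1 : (P' * P⁻¹)⁻¹ * x * (P' * P⁻¹) = P * (P'⁻¹ * x * P' * P⁻¹) := by group
  rw [e1, Units.val_mul, ← Matrix.mulVec_mulVec, ← Matrix.mulVec_mulVec, hP, ← hP', Matrix.mulVec_mulVec,
    Matrix.mulVec_mulVec, ← Units.val_mul]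
  have e2 : P' * (P'⁻¹ * x * P' * P⁻¹) = x * (P' * P⁻¹) := by group
  rw [e2, Units.val_mul, ← Matrix.mulVec_mulVec, ← Matrix.mulVec_mulVec, hc, Units.val_mul, ← Matrix.mulVec_mulVec,
    ← Matrix.mulVec_mulVec, hP', ← hP, Matrix.mulVec_mulVec, Matrix.mulVec_mulVec, ← Units.val_mul, mul_inv_cancel,
    Units.val_one, Matrix.one_mulVec, Matrix.one_mulVec]

/-- **Eigenvalues of similarities**: `{z ^ q₀} = {c / z}`. -/
theorem eig_of_sim (hF : Fintype.card F = q₀ ^ 2) (hn : 0 < n) (hf : Cfsg.Geo.IsUnitaryFormPow q₀ f)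
    (E : Type*) [Field E] [Algebra F E] [IsAlgClosed E] {g x : GL (Fin n) F}
    (hg : g⁻¹ * x * g ∈ Cfsg.Geo.similarityGroup f) {r : ℕ} (hr : (r : F) ≠ 0) {s : F} (hs : s ≠ 0)
    (hx : (x : Matrix (Fin n) (Fin n) F) ^ r = s • (1 : Matrix (Fin n) (Fin n) F)) :
    ∃ c : F, c ≠ 0 ∧ c ^ q₀ = c ∧ (eig E (x : Matrix (Fin n) (Fin n) F)).map (fun z => z ^ q₀) =
      (eig E (x : Matrix (Fin n) (Fin n) F)).map (fun z => algebraMap F E c / z) := by
  obtain ⟨P, hP⟩ := exists_frame hF hf
  obtain ⟨c, hc⟩ := hg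
  have hcf := mult_fixed hf hc hn
  let y : GL (Fin n) F := P⁻¹ * (g⁻¹ * x * g) * P
  have hy : ∀ u v : Fin n → F, Cfsg.hermForm n F q₀ ((y : Matrix (Fin n) (Fin n) F) *ᵥ u)
      ((y : Matrix (Fin n) (Fin n) F) *ᵥ v) = (c : F) * Cfsg.hermForm n F q₀ u v := by
    intro u v
    rw [← hP, ← hP, Matrix.mulVec_mulVec, Matrix.mulVec_mulVec, ← Units.val_mul]
    have e1 : P * y = (g⁻¹ * x * g) * P := by simp only [y]; group
    rw [e1, Units.val_mul, ← Matrix.mulVec_mulVec, ← Matrix.mulVec_mulVec, hc]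
  have hyc : y = (g * P)⁻¹ * x * (g * P) := by simp only [y]; group
  have heig : eig E (y : Matrix (Fin n) (Fin n) F) = eig E (x : Matrix (Fin n) (Fin n) F) := by
    rw [hyc, Units.val_mul, Units.val_mul, eig_conj']
  have hyr : (y : Matrix (Fin n) (Fin n) F) ^ r = s • (1 : Matrix (Fin n) (Fin n) F) := by
    have h4 : y ^ r = (g * P)⁻¹ * x ^ r * (g * P) := by
      rw [hyc]
      have := conj_pow (a := (g * P)⁻¹) (b := x) (i := r)
      rwa [inv_inv] at this
    rw [← Units.val_pow_eq_pow_val, h4, Units.val_mul, Units.val_mul, Units.val_pow_eq_pow_val, hx,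
      Matrix.mul_smul, Matrix.smul_mul, Matrix.mul_one, ← Units.val_mul, inv_mul_cancel, Units.val_one]
  have hmat : (y : Matrix (Fin n) (Fin n) F)ᵀ * ((1 : GL (Fin n) F) : Matrix (Fin n) (Fin n) F) *
      ((y : Matrix (Fin n) (Fin n) F).map ((conj hF : F ≃+* F) : F →+* F)) =
        (c : F) • ((1 : GL (Fin n) F) : Matrix (Fin n) (Fin n) F) := by
    rw [Units.val_one, Matrix.mul_one]
    ext i j
    have := hy (Pi.single i 1) (Pi.single j 1)
    rw [Matrix.mulVec_single_one, Matrix.mulVec_single_one, herm_def, herm_def] at this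
    rw [Matrix.mul_apply, Matrix.smul_apply, Matrix.one_apply]
    have e3 : ∑ k, (y : Matrix (Fin n) (Fin n) F)ᵀ i k *
        ((y : Matrix (Fin n) (Fin n) F).map ((conj hF : F ≃+* F) : F →+* F)) k j =
        ∑ k, (y : Matrix (Fin n) (Fin n) F).col i k * (y : Matrix (Fin n) (Fin n) F).col j k ^ q₀ := rfl
    rw [e3, this]
    have h0 : q₀ ≠ 0 := (q_pos hF).ne'
    by_cases hij : i = j
    · subst hij
      rw [if_pos rfl, Finset.sum_eq_single i]
      · simp
      · intro k _ hk
        rw [Pi.single_eq_of_ne hk, zero_mul]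
      · simp
    · rw [if_neg hij, smul_zero]
      apply mul_eq_zero_of_right
      apply Finset.sum_eq_zero
      intro k _
      by_cases hki : k = i
      · rw [hki, Pi.single_eq_of_ne hij, zero_pow h0, mul_zero]
      · rw [Pi.single_eq_of_ne hki, zero_mul]
  refine ⟨c, c.ne_zero, hcf, ?_⟩
  have hd := eig_dual (E := E) hr hs _ _ (1 : GL (Fin n) F) hyr c.ne_zero hmat
  rw [← heig, ← hd]
  -- the Frobenius of `E`
  obtain ⟨p, k, hp, hchar, hk, -⟩ := exists_prime_pow hF
  have := Fact.mk hp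
  have : CharP E p := charP_of_injective_algebraMap (algebraMap F E).injective p
  rw [eig_map_of_ringHom (E := E) ((conj hF : F ≃+* F) : F →+* F) (iterateFrobenius E p k) (fun a => by
    rw [iterateFrobenius_def, ← map_pow, ← hk]
    rfl)]
  refine Multiset.map_congr rfl fun z _ => ?_
  rw [iterateFrobenius_def, hk]

/-- **diagonal similarities**: if `d k * (d (π k)) ^ q₀` is constant for an involutory permutation `π`. -/
theorem diag_sim (hF : Fintype.card F = q₀ ^ 2) (hf : Cfsg.Geo.IsUnitaryFormPow q₀ f)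
    (π : Equiv.Perm (Fin n)) (hπ : ∀ i, π (π i) = i) (d : Fin n → F) (hd : ∀ i, d i ≠ 0) (c : F) (hc : c ≠ 0)
    (h : ∀ k, d k * d (π k) ^ q₀ = c) :
    ∃ g : GL (Fin n) F, g⁻¹ * diagU d hd * g ∈ Cfsg.Geo.similarityGroup f := by
  have h0 : q₀ ≠ 0 := (q_pos hF).ne'
  let f' : (Fin n → F) → (Fin n → F) → F := fun u v => ∑ k, u k * v (π k) ^ q₀
  have hf' : Cfsg.Geo.IsUnitaryFormPow q₀ f' := by
    refine ⟨fun x y v => ?_, fun c x v => ?_, fun v w => ?_, fun v hv => ?_⟩
    · simp only [f', Pi.add_apply, add_mul, Finset.sum_add_distrib]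
    · simp only [f', Pi.smul_apply, smul_eq_mul, mul_assoc, Finset.mul_sum]
    · simp only [f']
      rw [sum_pow_q hF, ← Equiv.sum_comp π]
      refine Finset.sum_congr rfl fun k _ => ?_
      rw [mul_pow, pow_q_pow_q hF, hπ, mul_comm]
    · obtain ⟨k, hk⟩ : ∃ k, v k ≠ 0 := by
        by_contra hcon
        push Not at hcon
        exact hv (funext hcon)
      constructor
      · refine ⟨Pi.single (π k) 1, ?_⟩
        simp only [f']
        rw [Finset.sum_eq_single (π k)]
        · rw [Pi.single_eq_same, one_mul, hπ]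
          exact pow_ne_zero _ hk
        · intro b _ hb
          rw [Pi.single_eq_of_ne hb, zero_mul]
        · simp
      · refine ⟨Pi.single (π k) 1, ?_⟩
        simp only [f']
        rw [Finset.sum_eq_single k]
        · rw [Pi.single_eq_same, one_pow, mul_one]
          exact hk
        · intro b _ hb
          rw [Pi.single_eq_of_ne (fun h' => hb (π.injective h')), zero_pow h0, mul_zero]
        · simp
  obtain ⟨g, hg⟩ := sim_conj hF hf hf'
  refine ⟨g, hg _ ⟨Units.mk0 c hc, fun u v => ?_⟩⟩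
  simp only [f', coe_diagU, Units.val_mk0, Finset.mul_sum]
  refine Finset.sum_congr rfl fun k _ => ?_
  rw [Matrix.mulVec_diagonal, Matrix.mulVec_diagonal, ← h k, mul_pow]
  ring

end basic

end Cfsg.Agent.H956.UnitSim
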