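import Cfsg.Agent.H956.SUTorus
import Cfsg.Agent.H504.ZerosLie
import Cfsg.Agent.H674.TwelvePSU
import Cfsg.Agent.S0283
import Cfsg.Agent.Lib.MatRng
import Cfsg.Agent.FastGrp
import Cfsg.Agent.Prune
set_option linter.all false
prune_inst 0x7f00000000000000000000000000000000000000000000000000000000000000000000000000000000000000000000000000000000000000000000000000000000000000000000000000000000000000003fffffffffffffffffffffffffffbeffbdffffffff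
open scoped Cfsg.Agent.FastGrp

-- part: H956/ZerosPSU3
section
/-!
# Zeros of characters: `PSU_3(q)`, `q ≥ 3` (S4895)
-/

set_option autoImplicit false
set_option maxRecDepth 20000

namespace Cfsg.Agent.H504.Zeros

open Cfsg Cfsg.Agent.H504.ZeroTI

/-- a `CC`-subgroup and a `p`-defect zero character -/
theorem big_of_cc_dz {G : Type*} [Group G] [Finite G] {p : ℕ} [Fact p.Prime] {A : Subgroup G} (hA : CC A)
    {e m k : ℕ} (he : eIdx A = e) (hm : 2 ≤ m) (hem : Nat.card A = e * m + 1)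
    (hk : k ≤ Nat.card (ConjClasses G)) (hdz : Cfsg.Agent.H665.NoPQ.HasDZ p G) (hpA : ¬ p ∣ Nat.card A)
    (t : Finset G) (ht : NonConj t) (htp : ∀ g ∈ t, p ∣ orderOf g)
    (h : 8 ≤ (m - 1) * (k - (e + m)) + (t.card - 1)) : Big G := by
  obtain ⟨s, hs, hsc, hsA⟩ := exists_reps (m := m) hA (by rw [he]; exact hem)
  obtain ⟨χ, hχ⟩ := hdz
  have hne : ∀ g ∈ s, ∀ h ∈ t, ¬ IsConj g h := by
    intro g hg h hh hc
    have h1 : orderOf g = orderOf h := by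
      obtain ⟨c, rfl⟩ := isConj_iff.1 hc
      exact ((MulAut.conj c).orderOf_eq g).symm
    have h2 : orderOf g ∣ Nat.card A := by
      have := orderOf_dvd_natCard (⟨g, (hsA g hg).1⟩ : A)
      rwa [← Subgroup.orderOf_coe] at this
    exact hpA ((htp h hh).trans (h1 ▸ h2))
  refine big_of_family (ι := Bool) Finset.univ (fun b => if b then s else t) ?_
    (fun b => if b then (NV A)ᶜ else {χ}) ?_ ?_
  · intro i _ j _ g hg h hh hc
    cases i <;> cases j <;> simp only [if_true, if_false, Bool.false_eq_true] at hg hh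
    · exact ⟨rfl, ht g hg h hh hc⟩
    · exact absurd hc.symm (hne h hh g hg)
    · exact absurd hc (hne g hg h hh)
    · exact ⟨rfl, hs g hg h hh hc⟩
  · intro i _ χ' hχ' g hg
    cases i <;> simp only [if_true, if_false, Bool.false_eq_true] at hg hχ'
    · rw [Set.mem_singleton_iff.1 hχ']
      exact Cfsg.Agent.H713.irr_zero_of_singular hχ (htp g hg)
    · exact apply_eq_zero_of_compl hχ' (hsA g hg).1 (hsA g hg).2
  · rw [Fintype.sum_bool]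
    simp only [if_true, if_false, Bool.false_eq_true]
    rw [hsc, Set.ncard_singleton, mul_one]
    exact h.trans (Nat.add_le_add_right (Nat.mul_le_mul_left _ (le_ncard_compl hA he hm hem hk)) _)

end Cfsg.Agent.H504.Zeros

namespace Cfsg.Agent.H956.ZerosPSU3

open Matrix Cfsg.Agent.H92 Cfsg.Agent.LieClassical Cfsg.Agent.H674.SUTools Cfsg.Agent.H674.SUBlock
open Cfsg.Agent.H674.Explicit Cfsg.Agent.H674.ExplicitCases Cfsg.Agent.H504.ZeroTI Cfsg.Agent.H504.Zeros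

/-- the torus of order `a = (q ^ 2 - q + 1) / d`, `d = gcd(3, q + 1)`, and its automizer -/
theorem exists_torus {F : Type} [Field F] [Fintype F] {q : ℕ} (hF : Fintype.card F = q ^ 2) (h2 : q ≠ 2) :
    ∃ (A : Subgroup (Cfsg.PSU 3 F q)) (m : ℕ), CC A ∧ eIdx A = 3 ∧ Nat.card A = 3 * m + 1 ∧
      Nat.gcd 3 (q + 1) * (3 * m + 1) + q = q ^ 2 + 1 := by
  have hq := ClassicalGeometry.GUBasic.two_le hF
  have hq3 : 3 ≤ q := by omega
  obtain ⟨A, hA, hc⟩ := SUTorus.exists_cc (n := 3) hF (by norm_num) (by decide) (by omega)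
  have hG := Cfsg.Agent.S0280.result hF 3 (by norm_num)
  simp only [Finset.prod_range_succ, Finset.prod_range_zero] at hG
  norm_num only [_root_.pow_one, _root_.ite_true, _root_.one_mul, _root_.ite_false] at hG
  set d := Nat.gcd 3 (q + 1) with hd
  have hd0 : 0 < d := Nat.gcd_pos_of_pos_left _ (by norm_num)
  obtain ⟨s, rfl⟩ : ∃ s, q = s + 3 := ⟨q - 3, by omega⟩
  -- `d a = q ^ 2 - q + 1`
  have hda : d * Nat.card A + (s + 3) = (s + 3) ^ 2 + 1 := by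
    have h1 : (d * Nat.card A) * (s + 3 + 1) = (s + 3) ^ 3 + 1 := by rw [← hc]; ring
    have h3 : (d * Nat.card A) * (s + 3 + 1) + (s + 3) * (s + 3 + 1) = ((s + 3) ^ 2 + 1) * (s + 3 + 1) := by
      rw [h1]; ring
    rw [← add_mul] at h3
    exact Nat.eq_of_mul_eq_mul_right (by omega) h3
  have hq1 : (s + 3) ^ 2 - 1 = s ^ 2 + 6 * s + 8 := by
    have : (s + 3) ^ 2 = s ^ 2 + 6 * s + 8 + 1 := by ring
    (clear * - this; omega)
  rw [hq1] at hG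
  have hcard : Nat.card (Cfsg.PSU 3 F (s + 3)) =
      Nat.card A * ((s + 3) ^ 3 * (s ^ 2 + 6 * s + 8) * (s + 3 + 1)) := by
    apply Nat.eq_of_mul_eq_mul_left (show 0 < d * (s + 3 + 1) by positivity)
    calc d * (s + 3 + 1) * Nat.card (Cfsg.PSU 3 F (s + 3)) = d * ((s + 3 + 1) * Nat.card (Cfsg.PSU 3 F (s + 3))) := by
          ring
      _ = (s + 3) ^ 3 * ((s + 3 + 1) * (s ^ 2 + 6 * s + 8) * ((s + 3) ^ 3 + 1)) := hG
      _ = (s + 3) ^ 3 * ((s + 3 + 1) * (s ^ 2 + 6 * s + 8) * (Nat.card A * d * (s + 3 + 1))) := by rw [← hc]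
      _ = _ := by ring
  have ha7 : 3 < Nat.card A := by
    have h3 : d ≤ 3 := Nat.gcd_le_left _ (by norm_num)
    by_contra hcon
    have h4 : d * Nat.card A ≤ 3 * 3 := Nat.mul_le_mul h3 (by omega)
    have h5 : (s + 3) ^ 2 + 1 = s ^ 2 + 5 * s + 7 + (s + 3) := by ring
    have h6 : s = 0 := by linarith only [hda, h4, _root_.Nat.cast_nonneg (α := ℤ) (s), _root_.sq_nonneg (↑s : ℤ)]
    subst h6
    have h7 : d = 1 := by rw [hd]; norm_num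
    rw [h7] at hda
    omega
  have he : eIdx A = 3 := by
    rw [eIdx_eq_mod hA (by omega) hcard]
    have h4 : (s + 3) ^ 3 * (s ^ 2 + 6 * s + 8) * (s + 3 + 1) =
        3 + (d * Nat.card A) * (s ^ 4 + 14 * s ^ 3 + 72 * s ^ 2 + 159 * s + 123) := by
      have h5 : d * Nat.card A = s ^ 2 + 5 * s + 7 := by
        have : (s + 3) ^ 2 + 1 = s ^ 2 + 5 * s + 7 + (s + 3) := by ring
        omega
      rw [h5]
      ring
    rw [h4, show d * Nat.card A * (s ^ 4 + 14 * s ^ 3 + 72 * s ^ 2 + 159 * s + 123) =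
      Nat.card A * (d * (s ^ 4 + 14 * s ^ 3 + 72 * s ^ 2 + 159 * s + 123)) by ring, Nat.add_mul_mod_self_left,
      Nat.mod_eq_of_lt ha7]
  obtain ⟨m, hm⟩ := exists_m hA
  rw [he] at hm
  exact ⟨A, m, hA, he, hm, by rw [← hm, hda]⟩

/-- `q ≥ 7` -/
theorem big_large {F : Type} [Field F] [Fintype F] {q : ℕ} (hF : Fintype.card F = q ^ 2) (h7 : 7 ≤ q) :
    Big (Cfsg.PSU 3 F q) := by
  obtain ⟨A, m, hA, he, hm, hd⟩ := exists_torus hF (by omega)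
  have h1 := (Cfsg.Agent.H674.SteinbergSU.sq_le_three hF 0).trans (card_classes_le hF (le_refl 3))
  set d := Nat.gcd 3 (q + 1) with hd'
  set k := Nat.card (ConjClasses (Cfsg.PSU 3 F q)) with hk
  have hd0 : 0 < d := Nat.gcd_pos_of_pos_left _ (by norm_num)
  have h3 : d ≤ 3 := Nat.gcd_le_left _ (by norm_num)
  clear_value d k
  obtain ⟨t, rfl⟩ : ∃ t, q = t + 7 := ⟨q - 7, by omega⟩
  have h4 : (t + 7) ^ 2 = t ^ 2 + 14 * t + 49 := by ring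
  rw [h4] at h1 hd
  have hm2 : 2 ≤ m := by
    interval_cases d <;> omega
  have hk8 : 8 ≤ k - (3 + m) := by
    interval_cases d <;> (clear * - hd h1; omega)
  refine big_of_ti hA he hm2 hm hk.le ?_
  calc 8 ≤ 1 * (k - (3 + m)) := by omega
    _ ≤ (m - 1) * (k - (3 + m)) := Nat.mul_le_mul_right _ (by omega)

/-- `q = 4` -/
theorem big_four {F : Type} [Field F] [Fintype F] (hF : Fintype.card F = 4 ^ 2) :
    Big (Cfsg.PSU 3 F 4) := by
  obtain ⟨A, m, hA, he, hm, hd⟩ := exists_torus hF (by norm_num)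
  norm_num at hd
  have hm4 : m = 4 := by omega
  subst hm4
  have h1 := Cfsg.Agent.H674.TwelvePSU.twelve_le_psu F 3 4 hF le_rfl (by norm_num)
  exact big_of_ti hA he (by norm_num) hm h1 (by norm_num)

/-- thirteen classes of `SU_3(3)` -/
def m33 : List (Matrix (Fin 3) (Fin 3) F9) :=
  [!![⟨0, 0⟩, ⟨0, 1⟩, ⟨0, 0⟩; ⟨0, 0⟩, ⟨0, 0⟩, ⟨2, 0⟩; ⟨0, 1⟩, ⟨0, 0⟩, ⟨0, 0⟩],
   !![⟨1, 0⟩, ⟨0, 0⟩, ⟨0, 0⟩; ⟨0, 0⟩, ⟨1, 0⟩, ⟨0, 0⟩; ⟨0, 0⟩, ⟨0, 0⟩, ⟨1, 0⟩],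
   !![⟨0, 0⟩, ⟨0, 0⟩, ⟨1, 0⟩; ⟨0, 0⟩, ⟨0, 1⟩, ⟨0, 0⟩; ⟨0, 1⟩, ⟨0, 0⟩, ⟨0, 0⟩],
   !![⟨0, 2⟩, ⟨0, 0⟩, ⟨0, 0⟩; ⟨0, 0⟩, ⟨0, 0⟩, ⟨1, 0⟩; ⟨0, 0⟩, ⟨0, 2⟩, ⟨0, 0⟩],
   !![⟨1, 0⟩, ⟨0, 0⟩, ⟨0, 0⟩; ⟨0, 0⟩, ⟨0, 2⟩, ⟨0, 0⟩; ⟨0, 0⟩, ⟨0, 0⟩, ⟨0, 1⟩],
   !![⟨0, 0⟩, ⟨2, 2⟩, ⟨2, 1⟩; ⟨0, 2⟩, ⟨0, 0⟩, ⟨0, 0⟩; ⟨0, 0⟩, ⟨1, 2⟩, ⟨1, 1⟩],
   !![⟨1, 2⟩, ⟨0, 0⟩, ⟨1, 2⟩; ⟨1, 2⟩, ⟨0, 0⟩, ⟨2, 1⟩; ⟨0, 0⟩, ⟨0, 1⟩, ⟨0, 0⟩],
   !![⟨1, 0⟩, ⟨0, 0⟩, ⟨0, 0⟩; ⟨0, 0⟩, ⟨2, 2⟩, ⟨2, 1⟩; ⟨0, 0⟩, ⟨1, 1⟩, ⟨2, 1⟩],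
   !![⟨0, 0⟩, ⟨0, 0⟩, ⟨0, 1⟩; ⟨0, 0⟩, ⟨2, 0⟩, ⟨0, 0⟩; ⟨0, 2⟩, ⟨0, 0⟩, ⟨0, 0⟩],
   !![⟨0, 0⟩, ⟨1, 1⟩, ⟨1, 2⟩; ⟨1, 0⟩, ⟨0, 0⟩, ⟨0, 0⟩; ⟨0, 0⟩, ⟨1, 1⟩, ⟨2, 1⟩],
   !![⟨0, 2⟩, ⟨0, 0⟩, ⟨0, 0⟩; ⟨0, 0⟩, ⟨0, 2⟩, ⟨0, 0⟩; ⟨0, 0⟩, ⟨0, 0⟩, ⟨2, 0⟩],
   !![⟨2, 2⟩, ⟨0, 0⟩, ⟨2, 1⟩; ⟨1, 1⟩, ⟨0, 0⟩, ⟨2, 1⟩; ⟨0, 0⟩, ⟨2, 0⟩, ⟨0, 0⟩],
   !![⟨0, 1⟩, ⟨0, 0⟩, ⟨0, 0⟩; ⟨0, 0⟩, ⟨0, 1⟩, ⟨0, 0⟩; ⟨0, 0⟩, ⟨0, 0⟩, ⟨2, 0⟩]]

theorem good_m33 : m33.all (good 3) = true := by (delta Cfsg.Agent.H674.Explicit.good; set_option synthInstance.maxSize 20000 in open scoped Cfsg.Agent.Lib.MatDec Cfsg.Agent.Lib.MatRng in (simp only [Cfsg.Agent.Lib.MatDec.sw_dec, Cfsg.Agent.Lib.MatDec.sw_ite, Cfsg.Agent.Lib.MatDec.sw_beq, Cfsg.Agent.Lib.MatDec.sw_bne]; decide +kernel))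

theorem nodup_m33 : (m33.map (_root_.Cfsg.Agent.H674.Explicit.inv [1, 2, 3, 4, 6, 7, 8])).Nodup := by (delta Cfsg.Agent.H674.Explicit.inv; set_option synthInstance.maxSize 20000 in open scoped Cfsg.Agent.Lib.MatDec Cfsg.Agent.Lib.MatRng in (simp only [Cfsg.Agent.Lib.MatDec.sw_dec, Cfsg.Agent.Lib.MatDec.sw_ite, Cfsg.Agent.Lib.MatDec.sw_beq, Cfsg.Agent.Lib.MatDec.sw_bne]; decide +kernel))

/-- `13 ≤ k(PSU_3(3))` -/
theorem thirteen_le {F : Type} [Field F] [Fintype F] (hF : Fintype.card F = 3 ^ 2) :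
    13 ≤ Nat.card (ConjClasses (Cfsg.PSU 3 F 3)) := by
  have h9 := Cfsg.Agent.H674.TwelvePSU.h9
  rw [KTools.card_classes_congr (FieldTransfer.psuCongr 3 3 (FiniteField.ringEquivOfCardEq (hF.trans h9.symm)))]
  have h1 := card_classes_le (F := F9) (n := 3) (q := 3) h9 le_rfl
  have h2 := length_le_SU (n := 3) (q := 3) h9 (_root_.Cfsg.Agent.H674.Explicit.inv [1, 2, 3, 4, 6, 7, 8]) (inv_conj _) m33
    (fun M hM => List.all_eq_true.1 good_m33 M hM) nodup_m33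
  have h3 : Nat.gcd 3 (3 + 1) = 1 := by norm_num
  have h5 : m33.length = 13 := rfl
  rw [h3, one_mul] at h1
  rw [h5] at h2
  exact h2.trans h1

/-- `q = 3` -/
theorem big_three {F : Type} [Field F] [Fintype F] (hF : Fintype.card F = 3 ^ 2) :
    Big (Cfsg.PSU 3 F 3) := by
  obtain ⟨A, m, hA, he, hm, hd⟩ := exists_torus hF (by norm_num)
  norm_num at hd
  have hm4 : m = 2 := by omega
  subst hm4
  exact big_of_ti hA he (by norm_num) hm (thirteen_le hF) (by norm_num)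

/-- an element of order ten of `SU_3(5)` -/
def m10 : Matrix (Fin 3) (Fin 3) F25 :=
  !![⟨1, 0⟩, ⟨0, 0⟩, ⟨0, 0⟩; ⟨0, 0⟩, ⟨4, 2⟩, ⟨4, 2⟩; ⟨0, 0⟩, ⟨1, 2⟩, ⟨4, 3⟩]

theorem good_m10 : good 5 m10 = true := by decide +kernel

theorem ord_m10 : ordIs m10 10 = true := by decide +kernel

theorem hasOrd_ten : KTools.HasOrd (Cfsg.PSU 3 F25 5) 10 := by
  have h25 := Cfsg.Agent.H674.TwelvePSU.h25
  obtain ⟨x, hx⟩ := hasOrd_of h25 good_m10 (by norm_num) ord_m10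
  refine ⟨pr x, ?_⟩
  have h1 : orderOf (pr x) ∣ 10 := hx ▸ orderOf_map_dvd pr x
  have h2 : 10 ∣ orderOf (pr x) * 3 := by
    have h3 : pr (x ^ orderOf (pr x)) = 1 := by rw [map_pow, pow_orderOf_eq_one]
    rw [pr_eq_one_iff] at h3
    have h4 : Nat.card (Subgroup.center (Cfsg.SU 3 F25 5)) = 3 := by
      rw [Cfsg.Agent.S0279.result h25 3 le_rfl]
      norm_num
    have h5 := pow_card_eq_one' (x := (⟨x ^ orderOf (pr x), h3⟩ : Subgroup.center (Cfsg.SU 3 F25 5)))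
    rw [h4] at h5
    have h6 : (x ^ orderOf (pr x)) ^ 3 = 1 := (congrArg Subtype.val h5 :)
    rw [← pow_mul] at h6
    rw [← hx]
    exact orderOf_dvd_of_pow_eq_one h6
  have h3 : 10 ∣ orderOf (pr x) := Nat.Coprime.dvd_of_dvd_mul_right (by norm_num) h2
  exact Nat.dvd_antisymm h1 h3

/-- `q = 5` -/
theorem big_five {F : Type} [Field F] [Fintype F] (hF : Fintype.card F = 5 ^ 2) :
    Big (Cfsg.PSU 3 F 5) := by
  have h25 := Cfsg.Agent.H674.TwelvePSU.h25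
  refine Big.of_equiv (FieldTransfer.psuCongr 3 5 (FiniteField.ringEquivOfCardEq (hF.trans h25.symm))) ?_
  obtain ⟨A, m, hA, he, hm, hd⟩ := exists_torus h25 (by norm_num)
  norm_num at hd
  have hm4 : m = 2 := by omega
  subst hm4
  have h5 : Fact (Nat.Prime 5) := ⟨by norm_num⟩
  have hch : CharP F25 5 := charP_of_card_eq_prime_pow h25
  have hsimp : IsSimpleGroup (Cfsg.PSU 3 F25 5) := Cfsg.Agent.S0283.result h25 3 le_rfl (by norm_num)
  have hL : IsLieTypeChar 5 (Cfsg.PSU 3 F25 5) :=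
    Or.inr (Or.inr (Or.inl ⟨F25, inferInstance, inferInstance, hch, 3, 5, h25, le_rfl, by norm_num,
      ⟨MulEquiv.refl _⟩⟩))
  have hdz := hasDZ_of_hasSt (Cfsg.Agent.H167.StChar.hasSt_of_lie (by norm_num : Nat.Prime 5) hL)
  obtain ⟨t, ht, htc, hto⟩ := exists_of_orders (G := Cfsg.PSU 3 F25 5) {5, 10} (by
    intro n hn
    simp only [Finset.mem_insert, Finset.mem_singleton] at hn
    rcases hn with rfl | rfl
    · exact hasOrd_ten.of_dvd (by norm_num) (by norm_num)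
    · exact hasOrd_ten)
  have h1 := Cfsg.Agent.H674.TwelvePSU.twelve_le_psu F25 3 5 h25 le_rfl (by norm_num)
  refine big_of_cc_dz hA he (by norm_num) hm h1 hdz (by rw [hm]; norm_num) t ht ?_ ?_
  · intro g hg
    have := hto g hg
    simp only [Finset.mem_insert, Finset.mem_singleton] at this
    rcases this with h | h
    · rw [h]
    · rw [h]; norm_num
  · rw [htc]
    norm_num

/-- **`PSU_3(q)`, `q ≥ 3`** (task 799) -/
theorem big_psu3 {F : Type} [Field F] [Fintype F] {q : ℕ} (hF : Fintype.card F = q ^ 2) (h2 : q ≠ 2) :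
    Big (Cfsg.PSU 3 F q) := by
  have hq := ClassicalGeometry.GUBasic.two_le hF
  have h6 : q ≠ 6 := by
    rintro rfl
    obtain ⟨p, hp⟩ := CharP.exists F
    obtain ⟨k, hpp, hk⟩ := FiniteField.card F p
    rw [hF] at hk
    have h3 : 2 = p := (Nat.prime_dvd_prime_iff_eq (by norm_num) hpp).1
      (Nat.Prime.dvd_of_dvd_pow (by norm_num) (hk ▸ (by norm_num : 2 ∣ 6 ^ 2)))
    have h4 : 3 = p := (Nat.prime_dvd_prime_iff_eq (by norm_num) hpp).1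
      (Nat.Prime.dvd_of_dvd_pow (by norm_num) (hk ▸ (by norm_num : 3 ∣ 6 ^ 2)))
    omega
  rcases Nat.lt_or_ge q 7 with h7 | h7
  · have : q = 3 ∨ q = 4 ∨ q = 5 := by omega
    rcases this with rfl | rfl | rfl
    · exact big_three hF
    · exact big_four hF
    · exact big_five hF
  · exact big_large hF h7

end Cfsg.Agent.H956.ZerosPSU3
end

-- part: H279/ZerosTools
section
/-!
# Tools for S4895: non-conjugate elements in a quotient by a central subgroup, `p`-singular matrices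
-/

set_option autoImplicit false

namespace Cfsg.Agent.H279.ZerosTools

open Cfsg Cfsg.Agent.H504.Zeros Matrix

universe u v

/-- a family of pairwise non-conjugate elements of `G`, more than `8|Z|` of them, gives nine pairwise
non-conjugate elements of `G/Z`. -/
theorem exists_nine {G : Type u} [Group G] [Finite G] (Z : Subgroup G) [Z.Normal]
    {ι : Type v} [Finite ι] (f : ι → G) (hf : ∀ i j, IsConj (f i) (f j) → i = j)
    (hcard : 8 * Nat.card Z < Nat.card ι) :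
    ∃ s : Finset (G ⧸ Z), NonConj s ∧ 9 ≤ s.card ∧ ∀ x ∈ s, ∃ i, x = (f i : G ⧸ Z) := by
  classical
  have : Fintype ι := Fintype.ofFinite ι
  have : Fintype Z := Fintype.ofFinite Z
  let c : ι → ConjClasses (G ⧸ Z) := fun i => ConjClasses.mk (f i : G ⧸ Z)
  have hfib : ∀ b ∈ (Finset.univ : Finset ι).image c,
      ((Finset.univ : Finset ι).filter fun i => c i = b).card ≤ Nat.card Z := by
    intro b hb
    obtain ⟨i0, -, rfl⟩ := Finset.mem_image.1 hb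
    have h1 : ∀ i : ι, c i = c i0 → ∃ z : Z, IsConj (f i) (f i0 * z) := by
      intro i hi
      obtain ⟨g, hg⟩ := isConj_iff.1 (ConjClasses.mk_eq_mk_iff_isConj.1 hi)
      obtain ⟨g, rfl⟩ := QuotientGroup.mk_surjective g
      have h2 : (QuotientGroup.mk (g * f i * g⁻¹) : G ⧸ Z) = QuotientGroup.mk (f i0) := by
        simpa only [_root_.QuotientGroup.mk_mul, _root_.QuotientGroup.mk_inv] using hg
      rw [eq_comm, QuotientGroup.eq] at h2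
      exact ⟨⟨_, h2⟩, isConj_iff.2 ⟨g, by group⟩⟩
    choose z hz using h1
    rw [Nat.card_eq_fintype_card, ← Finset.card_univ]
    refine Finset.card_le_card_of_injOn
      (fun i => if h : c i = c i0 then z i h else 1) (fun _ _ => Finset.mem_univ _) ?_
    intro i hi j hj hij
    have hi' : c i = c i0 := (Finset.mem_filter.1 (Finset.mem_coe.1 hi)).2
    have hj' : c j = c i0 := (Finset.mem_filter.1 (Finset.mem_coe.1 hj)).2
    simp only [dif_pos hi', dif_pos hj'] at hij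
    refine hf i j ((hz i hi').trans ?_)
    rw [hij]
    exact (hz j hj').symm
  have h1 := Finset.card_le_mul_card_image (Finset.univ : Finset ι) (f := c) (Nat.card Z) hfib
  rw [Finset.card_univ, ← Nat.card_eq_fintype_card] at h1
  have h2 : 9 ≤ ((Finset.univ : Finset ι).image c).card := by
    by_contra h
    have h3 : ((Finset.univ : Finset ι).image c).card ≤ 8 := by omega
    have h4 := Nat.mul_le_mul_left (Nat.card Z) h3
    omega
  have h3 : ∀ b ∈ (Finset.univ : Finset ι).image c, ∃ i : ι, c i = b := fun b hb => by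
    obtain ⟨i, -, hi⟩ := Finset.mem_image.1 hb
    exact ⟨i, hi⟩
  have : Nonempty ι := (Nat.card_pos_iff.1 (by omega)).1
  choose! r hr using h3
  refine ⟨((Finset.univ : Finset ι).image c).image fun b => (f (r b) : G ⧸ Z), ?_, ?_, ?_⟩
  · intro g hg h hh hgh
    obtain ⟨a, ha, rfl⟩ := Finset.mem_image.1 hg
    obtain ⟨b, hb, rfl⟩ := Finset.mem_image.1 hh
    have h4 : c (r a) = c (r b) := ConjClasses.mk_eq_mk_iff_isConj.2 hgh
    rw [hr a ha, hr b hb] at h4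
    rw [h4]
  · rw [Finset.card_image_of_injOn]
    · exact h2
    · intro a ha b hb hab
      rw [← hr a ha, ← hr b hb]
      exact congrArg ConjClasses.mk hab
  · intro x hx
    obtain ⟨b, -, rfl⟩ := Finset.mem_image.1 hx
    exact ⟨r b, rfl⟩

/-- an indexed family of nine non-conjugate `p`-singular elements of a simple group of Lie type. -/
theorem big_of_fam {p : ℕ} (hp : p.Prime) {T : Type u} [Group T] [Finite T] [IsSimpleGroup T]
    (h : IsLieTypeChar p T) {ι : Type v} [Fintype ι] (f : ι → T)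
    (hf : ∀ i j, IsConj (f i) (f j) → i = j) (hps : ∀ i, p ∣ orderOf (f i))
    (hcard : 9 ≤ Fintype.card ι) : Big T := by
  classical
  refine big_of_lie hp h ((Finset.univ : Finset ι).image f) ?_ ?_ ?_
  · intro g hg h hh hgh
    obtain ⟨i, -, rfl⟩ := Finset.mem_image.1 hg
    obtain ⟨j, -, rfl⟩ := Finset.mem_image.1 hh
    rw [hf i j hgh]
  · intro g hg
    obtain ⟨i, -, rfl⟩ := Finset.mem_image.1 hg
    exact hps i
  · rw [Finset.card_image_of_injective]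
    · exact hcard
    · intro i j hij
      exact hf i j (by rw [hij])

section Sing

variable {F : Type u} [Field F] {n : Type v} [Fintype n] [DecidableEq n]

/-- `(M - 1)² v = 0`, `(M - 1) v ≠ 0`: then `Mᵏ v = v + k (M - 1) v`. -/
theorem pow_mulVec {M : Matrix n n F} {v w : n → F} (hv : M *ᵥ v = v + w) (hw : M *ᵥ w = w) (k : ℕ) :
    (M ^ k) *ᵥ v = v + (k : F) • w := by
  induction k with
  | zero => simp
  | succ k ih =>
    rw [pow_succ', ← Matrix.mulVec_mulVec, ih, Matrix.mulVec_add, Matrix.mulVec_smul, hv, hw, Nat.cast_succ,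
      add_smul, one_smul, add_assoc, add_comm w]

theorem pow_mulVec_self {M : Matrix n n F} {w : n → F} (hw : M *ᵥ w = w) (k : ℕ) :
    (M ^ k) *ᵥ w = w := by
  induction k with
  | zero => simp
  | succ k ih => rw [pow_succ', ← Matrix.mulVec_mulVec, ih, hw]

/-- a matrix with a Jordan block of size two for the eigenvalue one: if `Mᵏ` is a scalar, `p ∣ k`. -/
theorem dvd_of_pow_eq_smul {p : ℕ} [CharP F p] {M : Matrix n n F} {v w : n → F}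
    (hv : M *ᵥ v = v + w) (hw : M *ᵥ w = w) (hw0 : w ≠ 0) {k : ℕ} {a : F}
    (h : M ^ k = a • (1 : Matrix n n F)) : p ∣ k := by
  have h1 := pow_mulVec hv hw k
  have h2 := pow_mulVec_self hw k
  rw [h, Matrix.smul_mulVec, Matrix.one_mulVec] at h1 h2
  have ha : a = 1 := by
    by_contra ha
    have h3 : (a - 1) • w = 0 := by rw [sub_smul, one_smul, h2, sub_self]
    rcases smul_eq_zero.1 h3 with h4 | h4
    · exact ha (sub_eq_zero.1 h4)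
    · exact hw0 h4
  rw [ha, one_smul, left_eq_add] at h1
  rcases smul_eq_zero.1 h1 with h4 | h4
  · exact (CharP.cast_eq_zero_iff F p k).1 h4
  · exact absurd h4 hw0

open Polynomial in
/-- the characteristic polynomial of a multiple -/
theorem charpoly_smul (M : Matrix n n F) {c : F} (hc : c ≠ 0) :
    (c • M).charpoly = C (c ^ Fintype.card n) * M.charpoly.comp (C c⁻¹ * X) := by
  have h1 : M.charpoly.comp (C c⁻¹ * X) =
      ((compRingHom (C c⁻¹ * X : F[X])).mapMatrix M.charmatrix).det := by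
    rw [← RingHom.map_det]
    rfl
  have h2 : (c • M).charmatrix = (C c : F[X]) • ((compRingHom (C c⁻¹ * X : F[X])).mapMatrix M.charmatrix) := by
    ext1 i j
    rw [Matrix.smul_apply, RingHom.mapMatrix_apply, Matrix.map_apply, coe_compRingHom_apply,
      Matrix.charmatrix_apply, Matrix.charmatrix_apply, sub_comp, C_comp, Matrix.smul_apply,
      smul_eq_mul, smul_eq_mul, mul_sub, C_mul]
    congr 1
    by_cases hij : i = j
    · subst hij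
      rw [Matrix.diagonal_apply_eq, X_comp, ← mul_assoc, ← C_mul, mul_inv_cancel₀ hc, C_1, one_mul]
    · rw [Matrix.diagonal_apply_ne _ hij, zero_comp, mul_zero]
  rw [Matrix.charpoly, h2, Matrix.det_smul, h1, C_pow]

end Sing

end Cfsg.Agent.H279.ZerosTools
end

-- part: H279/ZerosPSUBase
section
/-!
# S4895, row `PSU_n(q)`, `n ≥ 4`: general tools
-/

set_option autoImplicit false
open Cfsg

namespace Cfsg.Agent.H279.ZerosPSU

open Matrix Polynomial Cfsg.Agent.H504.Zeros Cfsg.Agent.H279.ZerosTools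
open Cfsg.Agent.LieClassical Cfsg.Agent.H674.SUTools Cfsg.Agent.H674.SUBlock Cfsg.Agent.H674.SteinbergSU

universe u

section Gen

variable {F : Type u} [Field F] [Fintype F] {n q : ℕ}

/-- conjugacy in `PSU_n(q)` -/
theorem sim_of_pr (hF : Fintype.card F = q ^ 2) (hn : 3 ≤ n) {x y : Cfsg.SU n F q}
    (h : IsConj (pr x) (pr y)) : ∃ (c : F) (P Q : Matrix (Fin n) (Fin n) F), c ^ n = 1 ∧ c ^ (q + 1) = 1 ∧
      P * Q = 1 ∧ Q * P = 1 ∧ cm y = c • (P * cm x * Q) := by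
  obtain ⟨c, h5⟩ := isConj_iff.1 h
  obtain ⟨g, rfl⟩ := pr_surjective c
  have h6 : pr ((g * x * g⁻¹)⁻¹ * y) = 1 := by
    rw [map_mul, map_inv, map_mul, map_mul, map_inv, h5]
    simp
  rw [pr_eq_one_iff, SUBasic.mem_center_SU_iff hF hn] at h6
  obtain ⟨c, hcn, hcq, h7⟩ := h6
  have h8 : y = (g * x * g⁻¹) * SUBasic.suScalar q c hcn hcq := by
    rw [← h7]; group
  refine ⟨c, cm g, cm g⁻¹, hcn, hcq, ?_, ?_, ?_⟩
  · rw [← map_mul, mul_inv_cancel, map_one]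
  · rw [← map_mul, inv_mul_cancel, map_one]
  · rw [h8, map_mul, map_mul, map_mul]
    show _ * Matrix.diagonal (fun _ => c) = _
    ext a b
    rw [Matrix.mul_diagonal, Matrix.smul_apply, smul_eq_mul, mul_comm]

/-- conjugacy in `PSU_n(q)` and characteristic polynomials -/
theorem charpoly_of_pr (hF : Fintype.card F = q ^ 2) (hn : 3 ≤ n) {x y : Cfsg.SU n F q}
    (h : IsConj (pr x) (pr y)) : ∃ c : F, c ^ n = 1 ∧ c ^ (q + 1) = 1 ∧
      (cm y).charpoly = (cm x).charpoly.comp (C c⁻¹ * X) := by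
  obtain ⟨c, P, Q, h1, h2, h3, h4, h5⟩ := sim_of_pr hF hn h
  have hc : c ≠ 0 := by
    rintro rfl
    rw [zero_pow (by omega)] at h1
    exact zero_ne_one h1
  refine ⟨c, h1, h2, ?_⟩
  rw [h5, ZerosTools.charpoly_smul _ hc, Fintype.card_fin, h1, C_1, one_mul, Matrix.charpoly_mul_comm,
    ← mul_assoc, h4, one_mul]

/-- a Jordan block gives a `p`-singular element of `PSU_n(q)` -/
theorem dvd_pr (hF : Fintype.card F = q ^ 2) (hn : 3 ≤ n) (p : ℕ) [CharP F p] {x : Cfsg.SU n F q} {l : F}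
    (hl : l ≠ 0) {v w : Fin n → F} (hv : cm x *ᵥ v = l • (v + w)) (hw : cm x *ᵥ w = l • w) (hw0 : w ≠ 0) :
    p ∣ orderOf (pr x) := by
  have h1 : pr (x ^ orderOf (pr x)) = 1 := by
    rw [map_pow, pow_orderOf_eq_one]
  rw [pr_eq_one_iff, SUBasic.mem_center_SU_iff hF hn] at h1
  obtain ⟨c, hcn, hcq, h7⟩ := h1
  have h2 : cm x ^ orderOf (pr x) = c • (1 : Matrix (Fin n) (Fin n) F) := by
    rw [← map_pow, h7]
    show Matrix.diagonal (fun _ => c) = _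
    rw [Matrix.smul_one_eq_diagonal]
  have h3 : (l⁻¹ • cm x) ^ orderOf (pr x) = (l⁻¹ ^ orderOf (pr x) * c) • (1 : Matrix (Fin n) (Fin n) F) := by
    rw [_root_.smul_pow, h2, smul_smul]
  refine dvd_of_pow_eq_smul (p := p) (v := v) (w := w) ?_ ?_ hw0 h3
  · rw [Matrix.smul_mulVec, hv, smul_smul, inv_mul_cancel₀ hl, one_smul]
  · rw [Matrix.smul_mulVec, hw, smul_smul, inv_mul_cancel₀ hl, one_smul]

omit [Fintype F] in
/-- a block with a Jordan block -/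
theorem exists_blk {d k : ℕ} {A : Matrix (Fin d) (Fin d) F} (B : Matrix (Fin k) (Fin k) F) {l : F}
    {v w : Fin d → F} (hv : A *ᵥ v = l • (v + w)) (hw : A *ᵥ w = l • w) (hw0 : w ≠ 0) :
    ∃ v' w' : Fin (d + k) → F, blk A B *ᵥ v' = l • (v' + w') ∧ blk A B *ᵥ w' = l • w' ∧ w' ≠ 0 := by
  let f : (Fin d → F) → (Fin (d + k) → F) := fun v i => Sum.elim v (0 : Fin k → F) (finSumFinEquiv.symm i)
  have h1 : ∀ v, blk A B *ᵥ f v = f (A *ᵥ v) := by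
    intro v
    have h5 : f v ∘ (finSumFinEquiv.symm : Fin (d + k) ≃ Fin d ⊕ Fin k).symm =
        Sum.elim v (0 : Fin k → F) := by
      funext j
      simp [f]
    have h6 : Matrix.fromBlocks A 0 0 B *ᵥ (Sum.elim v (0 : Fin k → F)) = Sum.elim (A *ᵥ v) (0 : Fin k → F) := by
      rw [fromBlocks_mulVec]
      ext (i | i) <;> simp
    funext i
    rw [blk, Matrix.reindex_apply, Matrix.submatrix_mulVec_equiv, h5, h6]
    rfl
  have h2 : ∀ v v' : Fin d → F, f (v + v') = f v + f v' := by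
    intro v v'
    funext i
    simp only [f, Pi.add_apply]
    rcases finSumFinEquiv.symm i with i | i <;> simp
  have h3 : ∀ (a : F) (v : Fin d → F), f (a • v) = a • f v := by
    intro a v
    funext i
    simp only [f, Pi.smul_apply]
    rcases finSumFinEquiv.symm i with i | i <;> simp
  refine ⟨f v, f w, ?_, ?_, ?_⟩
  · rw [h1, hv, h3, h2]
  · rw [h1, hw, h3]
  · intro h
    apply hw0
    funext i
    have h4 := congrFun h (Fin.castAdd k i)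
    simpa [f] using h4

/-- two dimensional cross-section -/
theorem exists_two (hF : Fintype.card F = q ^ 2) (a : F) (ha : a ^ q = a) :
    ∃ x : Cfsg.SU 2 F q, (cm x).charpoly = X ^ 2 - C a * X + 1 ∧
      (a = 2 → ∃ v w, cm x *ᵥ v = (1 : F) • (v + w) ∧ cm x *ᵥ w = (1 : F) • w ∧ w ≠ 0) := by
  obtain ⟨c, α, δ, h1, h2, h3, h4⟩ := exists_hyp hF
  obtain ⟨i0, hi0, hi1⟩ := HermBasic.exists_trace_zero_ne hF
  set s := GUOrder.frob hF with hs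
  have hi : s i0 = -i0 := by
    have : s i0 = i0 ^ q := rfl
    rw [this]
    linear_combination hi1
  have ha' : s a = a := ha
  let J : Matrix (Fin 2) (Fin 2) F := !![0, 1; 1, 0]
  let P : Matrix (Fin 2) (Fin 2) F := !![1, α; c, δ]
  have hJ : J * J = 1 := by
    ext i j
    (revert i j; simp only [J, Matrix.mul_apply, Fin.sum_univ_succ, _root_.Fin.forall_fin_succ, _root_.Matrix.of_apply, _root_.Matrix.cons_val', _root_.Matrix.cons_val_fin_one, Fin.isValue, _root_.Matrix.cons_val_zero, _root_.Finset.univ_unique, _root_.Fin.default_eq_zero, _root_.Matrix.cons_val_succ, _root_.Finset.sum_const, _root_.Finset.card_singleton, _root_.one_smul, _root_.MulZeroClass.mul_zero, _root_.mul_one, _root_.zero_add, _root_.add_zero, _root_.IsEmpty.forall_iff, _root_.and_true, _root_.Matrix.one_apply_eq, Nat.reduceAdd, _root_.Fin.succ_zero_eq_one, _root_.ne_eq, _root_.zero_ne_one, _root_.not_false_eq_true,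 _root_.Matrix.one_apply_ne, _root_.and_self, _root_.Fin.succ_ne_zero, _root_.true_and])
  have hP : Pᵀ * P.map (GUOrder.frob hF) = J := by
    ext i j
    (revert i j; simp only [J, P, Matrix.mul_apply, Fin.sum_univ_succ, ← hs, h1, h2, h4, _root_.Fin.forall_fin_succ, _root_.Matrix.transpose_apply, _root_.Matrix.of_apply, _root_.Matrix.cons_val', _root_.Matrix.cons_val_fin_one, _root_.Matrix.map_apply, Fin.isValue, _root_.Matrix.cons_val_zero, _root_.Finset.univ_unique, _root_.Fin.default_eq_zero, _root_.Matrix.cons_val_succ, _root_.Finset.sum_const, _root_.Finset.card_singleton, _root_.one_smul, _root_.map_one, _root_.mul_one, _root_.forall_const, _root_.add_neg_cancel, _root_.one_mul, _root_.and_true, _root_.true_and]) <;> (repeat' with_reducible apply And.intro)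
    linear_combination h3
  obtain ⟨Q, hPQ, hQP⟩ := exists_inv hF hJ hP
  let M : Matrix (Fin 2) (Fin 2) F := !![a, -i0⁻¹; i0, 0]
  have hM : Mᵀ * J * M.map (GUOrder.frob hF) = J := by
    ext i j
    (revert i j; simp only [J, M, Matrix.mul_apply, Fin.sum_univ_succ, ← hs, hi, ha', hi0, _root_.Fin.forall_fin_succ, _root_.Matrix.transpose_apply, _root_.Matrix.of_apply, _root_.Matrix.cons_val', _root_.Matrix.cons_val_fin_one, Fin.isValue, _root_.Matrix.cons_val_zero, _root_.Finset.univ_unique, _root_.Fin.default_eq_zero, _root_.Matrix.cons_val_succ, _root_.Finset.sum_const, _root_.Finset.card_singleton, _root_.one_smul, _root_.Matrix.map_apply, _root_.MulZeroClass.mul_zero, _root_.mul_one, _root_.zero_add, _root_.add_zero, _root_.mul_neg, _root_.map_neg, _root_.map_inv₀, _root_.inv_neg, _root_.neg_neg, _root_.map_zero, _root_.forall_const, _root_.ne_eq, _root_.not_false_eq_true,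 _root_.mul_inv_cancel₀, _root_.MulZeroClass.zero_mul, _root_.neg_mul, _root_.inv_mul_cancel₀, _root_.implies_true, _root_.and_true, _root_.true_and]) <;> (repeat' with_reducible apply And.intro)
    ring
  have hdet : M.det = 1 := by
    simp [M, Matrix.det_fin_two, hi0]
  refine ⟨mkSU hF (P * M * Q) ?_ (isom_of_frame hF hPQ hP hM), ?_, ?_⟩
  · rw [Matrix.det_mul, Matrix.det_mul, hdet, mul_one, ← Matrix.det_mul, hPQ, Matrix.det_one]
  · rw [cm_mkSU, Matrix.charpoly_mul_comm, ← mul_assoc, hQP, one_mul, Matrix.charpoly_fin_two, hdet]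
    simp [M, Matrix.trace_fin_two]
  · rintro rfl
    rw [cm_mkSU]
    have h5 : ∀ z, (P * M * Q) *ᵥ (P *ᵥ z) = P *ᵥ (M *ᵥ z) := by
      intro z
      rw [Matrix.mulVec_mulVec, Matrix.mulVec_mulVec]
      congr 1
      rw [mul_assoc, hQP, mul_one]
    refine ⟨P *ᵥ ![1, 0], P *ᵥ ![1, i0], ?_, ?_, ?_⟩
    · rw [h5, one_smul, ← Matrix.mulVec_add]
      congr 1
      ext i
      fin_cases i
      · simp [M, Matrix.mulVec, dotProduct, Fin.sum_univ_succ]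
        norm_num
      · simp [M, Matrix.mulVec, dotProduct, Fin.sum_univ_succ]
    · rw [h5, one_smul]
      congr 1
      ext i
      fin_cases i
      · simp only [M, Matrix.mulVec, dotProduct, Fin.sum_univ_succ, hi0, _root_.Fin.zero_eta, _root_.Fin.isValue, _root_.Matrix.of_apply, _root_.Matrix.cons_val', _root_.Matrix.cons_val_fin_one, _root_.Matrix.cons_val_zero, _root_.mul_one, _root_.Finset.univ_unique, _root_.Fin.default_eq_zero, _root_.Matrix.cons_val_succ, _root_.neg_mul, _root_.ne_eq, _root_.not_false_eq_true, _root_.inv_mul_cancel₀, _root_.Finset.sum_neg_distrib, _root_.Finset.sum_const, _root_.Finset.card_singleton, _root_.one_smul]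
        norm_num
      · simp [M, Matrix.mulVec, dotProduct, Fin.sum_univ_succ]
    · intro h6
      have h7 : Q *ᵥ (P *ᵥ ![1, i0]) = ![1, i0] := by
        rw [Matrix.mulVec_mulVec, hQP, Matrix.one_mulVec]
      rw [h6, Matrix.mulVec_zero] at h7
      exact zero_ne_one (congrFun h7 0)

end Gen

end Cfsg.Agent.H279.ZerosPSU
end

-- part: H279/ZerosPSUFive
section
/-!
# S4895, row `PSU_n(q)`, `n ≥ 5`, `q ≥ 3`
-/

set_option autoImplicit false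
open Cfsg

namespace Cfsg.Agent.H279.ZerosPSU

open Matrix Polynomial Cfsg.Agent.H504.Zeros Cfsg.Agent.H279.ZerosTools
open Cfsg.Agent.LieClassical Cfsg.Agent.H674.SUTools Cfsg.Agent.H674.SUBlock Cfsg.Agent.H674.SteinbergSU

section Fam

variable {F : Type} [Field F] [Fintype F] {q : ℕ}

/-- `X³ - t X² + t̄ X - 1` -/
noncomputable def h3 (hF : Fintype.card F = q ^ 2) (t : F) : F[X] :=
  X ^ 3 - C t * X ^ 2 + C (GUOrder.frob hF t) * X - 1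

theorem h3_ne (hF : Fintype.card F = q ^ 2) (t : F) : h3 hF t ≠ 0 := by
  intro h
  have := congrArg (fun p => p.coeff 3) h
  simp only [h3, coeff_one, _root_.Polynomial.coeff_sub, _root_.Polynomial.coeff_add, _root_.Polynomial.coeff_X_pow, ↓ _root_.reduceIte, _root_.Polynomial.coeff_C_mul, _root_.Nat.succ_ne_self, _root_.MulZeroClass.mul_zero, _root_.sub_zero, _root_.Polynomial.coeff_mul_X, _root_.Polynomial.coeff_C_succ, _root_.add_zero, _root_.OfNat.ofNat_ne_zero, _root_.Polynomial.coeff_zero, _root_.one_ne_zero] at this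

theorem h3_deg (hF : Fintype.card F = q ^ 2) (t : F) : (h3 hF t).natDegree ≤ 3 := by
  unfold h3
  compute_degree

theorem h3_inj (hF : Fintype.card F = q ^ 2) {t t' : F} (h : h3 hF t = h3 hF t') : t = t' := by
  have h3 := congrArg (fun p => p.coeff 2) h
  simp only [ZerosPSU.h3, coeff_one, _root_.Polynomial.coeff_sub, _root_.Polynomial.coeff_add, _root_.Polynomial.coeff_X_pow, _root_.Nat.reduceEqDiff, ↓ _root_.reduceIte, _root_.Polynomial.coeff_C_mul, _root_.mul_one, _root_.zero_sub, _root_.Polynomial.coeff_mul_X, _root_.Polynomial.coeff_C_succ, _root_.add_zero, _root_.OfNat.ofNat_ne_zero, _root_.sub_zero, _root_.neg_inj] at h3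
  exact h3

/-- a double root -/
theorem h3_double (hF : Fintype.card F = q ^ 2) {t c : F} (h : (X - C c) ^ 2 ∣ h3 hF t) :
    t = 2 * c + c⁻¹ ^ 2 := by
  obtain ⟨r, hr⟩ := h
  have h1 : (h3 hF t).eval c = 0 := by rw [hr]; simp
  have h2 : (h3 hF t).derivative.eval c = 0 := by
    rw [hr, derivative_mul, derivative_pow]
    simp
  simp only [h3, _root_.Polynomial.eval_sub, _root_.Polynomial.eval_add, _root_.Polynomial.eval_pow, _root_.Polynomial.eval_X, _root_.Polynomial.eval_mul, _root_.Polynomial.eval_C, _root_.Polynomial.eval_one, _root_.Polynomial.derivative_sub, _root_.Polynomial.derivative_add, _root_.Polynomial.derivative_X_pow_succ, _root_.Nat.cast_ofNat, _root_.map_add, _root_.map_one, _root_.Polynomial.derivative_mul, _root_.Polynomial.derivative_C, _root_.MulZeroClass.zero_mul, _root_.Nat.cast_one, _root_.pow_one, _root_.zero_add, _root_.Polynomial.derivative_X,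 _root_.mul_one, _root_.Polynomial.derivative_one, _root_.sub_zero] at h1 h2
  have hc : c ≠ 0 := by
    rintro rfl
    simp at h1
  -- c³ - t c² + s c - 1 = 0, 3 c² - 2 t c + s = 0
  field_simp
  linear_combination h1 - c * h2

/-- a triple root -/
theorem h3_triple (hF : Fintype.card F = q ^ 2) {t c : F} (h : (X - C c) ^ 3 ∣ h3 hF t) :
    c ^ 3 = 1 := by
  obtain ⟨r, hr⟩ := h
  have h1 : (X - C c) ^ 3 = h3 hF t := by
    have h2 : r ≠ 0 := by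
      rintro rfl
      rw [mul_zero] at hr
      exact h3_ne hF t hr
    have h4 : (h3 hF t).natDegree = 3 + r.natDegree := by
      rw [hr, natDegree_mul (pow_ne_zero _ (X_sub_C_ne_zero c)) h2, natDegree_pow, natDegree_X_sub_C, mul_one]
    have h5 : r.natDegree = 0 := by
      have := h3_deg hF t
      omega
    obtain ⟨d, rfl⟩ : ∃ d, r = C d := ⟨_, eq_C_of_natDegree_eq_zero h5⟩
    have h6 := congrArg (fun p => p.coeff 3) hr
    have h7 : ((X - C c) ^ 3 * C d).coeff 3 = d := by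
      rw [coeff_mul_C]
      have : ((X - C c) ^ 3).coeff 3 = 1 := by
        have h8 : ((X - C c) ^ 3).Monic := (monic_X_sub_C c).pow 3
        have h9 : ((X - C c) ^ 3).natDegree = 3 := by
          rw [natDegree_pow, natDegree_X_sub_C]
        have := h8.coeff_natDegree
        rwa [h9] at this
      rw [this, one_mul]
    have h8 : (h3 hF t).coeff 3 = 1 := by simp only [h3, coeff_one, _root_.Polynomial.coeff_sub, _root_.Polynomial.coeff_add, _root_.Polynomial.coeff_X_pow, ↓ _root_.reduceIte, _root_.Polynomial.coeff_C_mul, _root_.Nat.succ_ne_self, _root_.MulZeroClass.mul_zero, _root_.sub_zero, _root_.Polynomial.coeff_mul_X, _root_.Polynomial.coeff_C_succ, _root_.add_zero, _root_.OfNat.ofNat_ne_zero]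
    simp only [h7, h8] at h6
    rw [hr, ← h6, C_1, mul_one]
  have h2 := congrArg (fun p => p.eval 0) h1
  simp only [h3, _root_.Polynomial.eval_pow, _root_.Polynomial.eval_sub, _root_.Polynomial.eval_X, _root_.Polynomial.eval_C, _root_.zero_sub, _root_.Polynomial.eval_add, _root_.ne_eq, _root_.OfNat.ofNat_ne_zero, _root_.not_false_eq_true, _root_.zero_pow, _root_.Polynomial.eval_mul, _root_.MulZeroClass.mul_zero, _root_.sub_self, _root_.add_zero, _root_.Polynomial.eval_one] at h2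
  linear_combination (-1 : F) * h2

/-- the family -/
theorem exists_fam5 (hF : Fintype.card F = q ^ 2) (k : ℕ) :
    ∃ f : F → Cfsg.SU (2 + (3 + k)) F q, (∀ t, (cm (f t)).charpoly = (X - 1) ^ (2 + k) * h3 hF t) ∧
      ∀ (p : ℕ) [CharP F p] (t : F), p ∣ orderOf (pr (f t)) := by
  obtain ⟨u, hu, hu'⟩ := exists_two hF 2 (by
    have h1 : GUOrder.frob hF 2 = 2 := map_ofNat _ 2
    exact h1)
  obtain ⟨v, w, hv, hw, hw0⟩ := hu' rfl
  choose f hf using fun t : F => exists_three hF t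
  refine ⟨fun t => mkSU hF (blk (cm u) (blk (cm (f t)) (1 : Matrix (Fin k) (Fin k) F)))
    (by rw [det_blk, det_blk, det_cm, det_cm, Matrix.det_one, one_mul, one_mul])
    (isom_blk hF (cm_isom hF u) (isom_blk hF (cm_isom hF (f t)) (isom_one hF))), fun t => ?_, fun p _ t => ?_⟩
  · rw [cm_mkSU, charpoly_blk, charpoly_blk, hu, hf, Matrix.charpoly_one, Fintype.card_fin, h3,
      show (C 2 : F[X]) = 2 from map_ofNat C 2]
    ring
  · obtain ⟨v', w', h1, h2, h3⟩ := exists_blk (blk (cm (f t)) (1 : Matrix (Fin k) (Fin k) F)) hv hw hw0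
    exact dvd_pr hF (by omega) p one_ne_zero h1 h2 h3

/-- conjugacy in `PSU` inside the family -/
theorem fam5_conj (hF : Fintype.card F = q ^ 2) {k : ℕ} {f : F → Cfsg.SU (2 + (3 + k)) F q}
    (hf : ∀ t, (cm (f t)).charpoly = (X - 1) ^ (2 + k) * h3 hF t) {t t' : F}
    (h : IsConj (pr (f t)) (pr (f t'))) :
    t = t' ∨ ∃ c : F, c ≠ 1 ∧ c ^ (q + 1) = 1 ∧ (c ^ 5 = 1 ∨ c ^ 3 = 1) ∧ t' = 2 * c + c⁻¹ ^ 2 := by
  obtain ⟨c, hcn, hcq, hc⟩ := charpoly_of_pr hF (by omega) h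
  have hc0 : c ≠ 0 := by
    rintro rfl
    rw [zero_pow (by omega)] at hcn
    exact zero_ne_one hcn
  rw [hf, hf] at hc
  by_cases hc1 : c = 1
  · left
    rw [hc1, inv_one, C_1, one_mul, comp_X] at hc
    have h1 : ((X : F[X]) - 1) ≠ 0 := by
      have := X_sub_C_ne_zero (1 : F)
      rwa [C_1] at this
    exact (h3_inj hF (mul_left_cancel₀ (pow_ne_zero _ h1) hc)).symm
  · right
    have h1 : (X - C c) ^ (2 + k) ∣ h3 hF t' := by
      have h2 : (X - C c) ^ (2 + k) ∣ (X - 1) ^ (2 + k) * h3 hF t' := by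
        rw [hc, mul_comp, pow_comp, sub_comp, X_comp, one_comp]
        have h3 : (C c⁻¹ * X - 1 : F[X]) = C c⁻¹ * (X - C c) := by
          rw [mul_sub, ← C_mul, inv_mul_cancel₀ hc0, C_1]
        rw [h3, mul_pow]
        exact dvd_mul_of_dvd_left (Dvd.intro_left _ rfl) _
      refine (IsCoprime.pow ?_).dvd_of_dvd_mul_left h2
      have h4 := isCoprime_X_sub_C_of_isUnit_sub (R := F) (a := c) (b := 1) (by
        exact (sub_ne_zero.2 hc1).isUnit)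
      rwa [C_1] at h4
    have h2 : (X - C c) ^ 2 ∣ h3 hF t' := (pow_dvd_pow _ (by omega)).trans h1
    have hk : k ≤ 1 := by
      have h4 := natDegree_le_of_dvd h1 (h3_ne hF t')
      rw [natDegree_pow, natDegree_X_sub_C, mul_one] at h4
      have := h3_deg hF t'
      omega
    refine ⟨c, hc1, hcq, ?_, h3_double hF h2⟩
    rcases Nat.le_one_iff_eq_zero_or_eq_one.1 hk with rfl | rfl
    · left
      exact hcn
    · right
      exact h3_triple hF h1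

/-- the possible exceptions -/
theorem exists_good (hF : Fintype.card F = q ^ 2) (hq : 3 ≤ q) : ∃ E : Finset F, 9 ≤ E.card ∧
    ∀ t ∈ E, ∀ c : F, c ≠ 1 → c ^ (q + 1) = 1 → (c ^ 5 = 1 ∨ c ^ 3 = 1) → t ≠ 2 * c + c⁻¹ ^ 2 := by
  classical
  rcases Nat.eq_or_lt_of_le hq with h | h
  · refine ⟨Finset.univ, ?_, fun t _ c hc hc1 hc2 => ?_⟩
    · rw [Finset.card_univ, hF, ← h]
      norm_num
    · exfalso
      rw [← h] at hc1
      apply hc
      rcases hc2 with hc2 | hc2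
      · calc c = c ^ 5 := by rw [pow_succ, hc1, one_mul]
          _ = 1 := hc2
      · calc c = c ^ 3 * c := by rw [hc2, one_mul]
          _ = 1 := by rw [← pow_succ, hc1]
  · let A : Finset F := ((nthRoots 5 (1 : F)).toFinset.erase 1) ∪ ((nthRoots 3 (1 : F)).toFinset.erase 1)
    have hA : A.card ≤ 6 := by
      have h1 : ((nthRoots 5 (1 : F)).toFinset.erase 1).card ≤ 4 := by
        rw [Finset.card_erase_of_mem (by
          rw [Multiset.mem_toFinset, mem_nthRoots (by norm_num), one_pow])]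
        have := (Multiset.toFinset_card_le (nthRoots 5 (1 : F))).trans (card_nthRoots 5 1)
        omega
      have h2 : ((nthRoots 3 (1 : F)).toFinset.erase 1).card ≤ 2 := by
        rw [Finset.card_erase_of_mem (by
          rw [Multiset.mem_toFinset, mem_nthRoots (by norm_num), one_pow])]
        have := (Multiset.toFinset_card_le (nthRoots 3 (1 : F))).trans (card_nthRoots 3 1)
        omega
      exact (Finset.card_union_le _ _).trans (by omega)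
    refine ⟨Finset.univ \ A.image fun c => 2 * c + c⁻¹ ^ 2, ?_, fun t ht c hc hc1 hc2 h' => ?_⟩
    · have h1 := Finset.le_card_sdiff (A.image fun c => 2 * c + c⁻¹ ^ 2) (Finset.univ : Finset F)
      rw [Finset.card_univ, hF] at h1
      have h2 := (Finset.card_image_le (s := A) (f := fun c => 2 * c + c⁻¹ ^ 2)).trans hA
      have h3 : 16 ≤ q ^ 2 := by nlinarith only [h]
      omega
    · refine (Finset.mem_sdiff.1 ht).2 (Finset.mem_image.2 ⟨c, ?_, h'.symm⟩)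
      rcases hc2 with hc2 | hc2
      · exact Finset.mem_union_left _ (Finset.mem_erase.2 ⟨hc, by
          rw [Multiset.mem_toFinset, mem_nthRoots (by norm_num), hc2]⟩)
      · exact Finset.mem_union_right _ (Finset.mem_erase.2 ⟨hc, by
          rw [Multiset.mem_toFinset, mem_nthRoots (by norm_num), hc2]⟩)

theorem isLie (hF : Fintype.card F = q ^ 2) {p n : ℕ} [CharP F p] (hn : 4 ≤ n) :
    IsLieTypeChar p (Cfsg.PSU n F q) :=
  Or.inr (Or.inr (Or.inl ⟨F, inferInstance, inferInstance, inferInstance, n, q, hF, by omega,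
    fun h => by omega, ⟨MulEquiv.refl _⟩⟩))

/-- `n ≥ 5`, `q ≥ 3` -/
theorem big_five (hF : Fintype.card F = q ^ 2) (hq : 3 ≤ q) {n : ℕ} (hn : 5 ≤ n) :
    Big (Cfsg.PSU n F q) := by
  obtain ⟨k, rfl⟩ : ∃ k, n = 2 + (3 + k) := ⟨n - 5, by omega⟩
  obtain ⟨p, hc⟩ := CharP.exists F
  have hp : p.Prime := CharP.char_is_prime F p
  have hs : IsSimpleGroup (Cfsg.PSU (2 + (3 + k)) F q) := S0283.result hF _ (by omega) (by omega)
  obtain ⟨f, hf, hf'⟩ := exists_fam5 hF k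
  obtain ⟨E, hE, hE'⟩ := exists_good hF hq
  refine big_of_fam hp (isLie (p := p) hF (by omega)) (fun t : E => pr (f t)) ?_ (fun t => hf' p t) ?_
  · intro t t' h
    rcases fam5_conj hF hf h with h1 | ⟨c, h1, h2, h3, h4⟩
    · exact Subtype.ext h1
    · exact (hE' t' t'.2 c h1 h2 h3 h4).elim
  · rwa [Fintype.card_coe]

end Fam

end Cfsg.Agent.H279.ZerosPSU
end

-- part: H279/ZerosPSUFour
section
/-!
# S4895, row `PSU_4(q)`, `q ≥ 4`
-/

set_option autoImplicit false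
open Cfsg

namespace Cfsg.Agent.H279.ZerosPSU

open Matrix Polynomial Cfsg.Agent.H504.Zeros Cfsg.Agent.H279.ZerosTools
open Cfsg.Agent.LieClassical Cfsg.Agent.H674.SUTools Cfsg.Agent.H674.SUBlock Cfsg.Agent.H674.SteinbergSU

section Fam

variable {F : Type} [Field F] [Fintype F] {q : ℕ}

theorem isom_smul (hF : Fintype.card F = q ^ 2) {d : ℕ} {A : Matrix (Fin d) (Fin d) F} {l : F}
    (hl : l * GUOrder.frob hF l = 1) (hA : Aᵀ * A.map (GUOrder.frob hF) = 1) :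
    (l • A)ᵀ * (l • A).map (GUOrder.frob hF) = 1 := by
  have h1 : (l • A).map (GUOrder.frob hF) = GUOrder.frob hF l • A.map (GUOrder.frob hF) := by
    ext i j
    simp
  rw [h1, Matrix.transpose_smul, Matrix.smul_mul, Matrix.mul_smul, smul_smul, hl, hA, one_smul]

theorem charpoly_two_smul {A : Matrix (Fin 2) (Fin 2) F} {a l : F} (hl : l ≠ 0)
    (hA : A.charpoly = X ^ 2 - C a * X + 1) : (l • A).charpoly = X ^ 2 - C (l * a) * X + C (l ^ 2) := by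
  rw [ZerosTools.charpoly_smul A hl, hA, Fintype.card_fin]
  have h1 : (C l * C l⁻¹ : F[X]) = 1 := by rw [← C_mul, mul_inv_cancel₀ hl, C_1]
  simp only [add_comp, sub_comp, pow_comp, mul_comp, X_comp, C_comp, one_comp, C_pow, C_mul]
  linear_combination (C l * C l⁻¹ * X ^ 2 + X ^ 2 - C l * C a * X) * h1

/-- the family -/
theorem exists_fam4 (hF : Fintype.card F = q ^ 2) :
    ∃ f : {l : F // l * l ^ q = 1} → {v : F // v ^ q = v} → Cfsg.SU 4 F q,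
      (∀ l v, (cm (f l v)).charpoly = (X - C (l : F)) ^ 2 * (X ^ 2 - C ((l : F)⁻¹ * v) * X + C ((l : F)⁻¹ ^ 2))) ∧
      ∀ (p : ℕ) [CharP F p] l v, p ∣ orderOf (pr (f l v)) := by
  obtain ⟨u, hu, hu'⟩ := exists_two hF 2 (by
    have h1 : GUOrder.frob hF 2 = 2 := map_ofNat _ 2
    exact h1)
  obtain ⟨v, w, hv, hw, hw0⟩ := hu' rfl
  choose f hf using fun t : {v : F // v ^ q = v} => exists_two hF t.1 t.2
  have hl0 : ∀ l : {l : F // l * l ^ q = 1}, (l : F) ≠ 0 := fun l => left_ne_zero_of_mul_eq_one l.2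
  have hl2 : ∀ l : {l : F // l * l ^ q = 1}, (l : F)⁻¹ * GUOrder.frob hF (l : F)⁻¹ = 1 := fun l => by
    rw [map_inv₀, ← mul_inv]
    have h1 : (l : F) * GUOrder.frob hF (l : F) = 1 := l.2
    rw [h1, inv_one]
  refine ⟨fun l v => mkSU (n := 2 + 2) hF (blk ((l : F) • cm u) ((l : F)⁻¹ • cm (f v))) ?_
    (isom_blk hF (isom_smul hF l.2 (cm_isom hF u)) (isom_smul hF (hl2 l) (cm_isom hF (f v)))),
    fun l v => ?_, fun p _ l v' => ?_⟩
  · rw [det_blk, Matrix.det_smul, Matrix.det_smul, det_cm, det_cm, Fintype.card_fin, mul_one, mul_one,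
      ← mul_pow, mul_inv_cancel₀ (hl0 l), one_pow]
  · show (cm (mkSU (n := 2 + 2) hF _ _ _)).charpoly = _
    rw [cm_mkSU, charpoly_blk, charpoly_two_smul (hl0 l) hu,
      charpoly_two_smul (inv_ne_zero (hl0 l)) (hf v).1]
    congr 1
    rw [C_mul, C_pow, show (C 2 : F[X]) = 2 from map_ofNat C 2]
    ring
  · have hv1 : ((l : F) • cm u) *ᵥ v = (l : F) • (v + w) := by
      rw [Matrix.smul_mulVec, hv, one_smul]
    have hw1 : ((l : F) • cm u) *ᵥ w = (l : F) • w := by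
      rw [Matrix.smul_mulVec, hw, one_smul]
    obtain ⟨v', w', h1, h2, h3⟩ := exists_blk ((l : F)⁻¹ • cm (f v')) hv1 hw1 hw0
    exact dvd_pr (n := 2 + 2) hF (by omega) p (hl0 l) h1 h2 h3

omit [Fintype F] in
theorem quad_inj {a b a' b' : F} (h : (X ^ 2 - C a * X + C b : F[X]) = X ^ 2 - C a' * X + C b') :
    a = a' ∧ b = b' := by
  have h4 := congrArg (fun p => p.coeff 1) h
  have h5 := congrArg (fun p => p.coeff 0) h
  simp [coeff_C] at h4 h5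
  exact ⟨h4, h5⟩

theorem fam4_inj {l v l' v' : F} (hl : l ≠ 0) (hl' : l' ≠ 0) (hv' : v' ^ 2 ≠ 4)
    (h : (X - C l) ^ 2 * (X ^ 2 - C (l⁻¹ * v) * X + C (l⁻¹ ^ 2)) =
      (X - C l') ^ 2 * (X ^ 2 - C (l'⁻¹ * v') * X + C (l'⁻¹ ^ 2) : F[X])) : l = l' ∧ v = v' := by
  have h0 : ∀ x : F, (X - C x) ^ 2 ≠ 0 := fun x => pow_ne_zero _ (X_sub_C_ne_zero x)
  by_cases hll : l = l'
  · subst hll
    refine ⟨rfl, ?_⟩
    have h1 := mul_left_cancel₀ (h0 l) h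
    have h2 := congrArg (fun p => p.coeff 1) h1
    simp [coeff_one, coeff_X, coeff_C, hl] at h2
    exact h2
  · exfalso
    have h1 : (X - C l) ^ 2 ∣ (X - C l') ^ 2 * (X ^ 2 - C (l'⁻¹ * v') * X + C (l'⁻¹ ^ 2) : F[X]) := by
      rw [← h]
      exact Dvd.intro _ rfl
    have h2 : (X - C l) ^ 2 ∣ (X ^ 2 - C (l'⁻¹ * v') * X + C (l'⁻¹ ^ 2) : F[X]) :=
      (IsCoprime.pow (isCoprime_X_sub_C_of_isUnit_sub (sub_ne_zero.2 hll).isUnit)).dvd_of_dvd_mul_left h1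
    have h3 : (X ^ 2 - C (l'⁻¹ * v') * X + C (l'⁻¹ ^ 2) : F[X]) = (X - C l) ^ 2 := by
      refine eq_of_monic_of_dvd_of_natDegree_le ((monic_X_sub_C l).pow 2) ?_ h2 ?_
      · monicity!
      · rw [natDegree_pow, natDegree_X_sub_C]
        compute_degree
    have h6 : ((X - C l) ^ 2 : F[X]) = X ^ 2 - C (2 * l) * X + C (l ^ 2) := by
      rw [C_mul, C_pow, show (C 2 : F[X]) = 2 from map_ofNat C 2]
      ring
    rw [h6] at h3
    obtain ⟨h4, h5⟩ := quad_inj h3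
    apply hv'
    field_simp at h4 h5
    rw [h4]
    linear_combination (-4 : F) * h5

theorem card_index (hF : Fintype.card F = q ^ 2) (hq : 4 ≤ q) :
    8 * Nat.gcd 4 (q + 1) < Nat.card ({l : F // l * l ^ q = 1} × {v : F // v ^ q = v ∧ v ^ 2 ≠ 4}) := by
  classical
  rw [Nat.card_prod, HermBasic.card_norm_eq_one hF]
  have h1 : q - 2 ≤ Nat.card {v : F // v ^ q = v ∧ v ^ 2 ≠ 4} := by
    have h2 := HermBasic.card_fixed hF
    rw [Nat.card_eq_fintype_card, Fintype.card_subtype] at h2 ⊢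
    have h3 : (Finset.univ.filter fun v : F => v ^ q = v) \ {2, -2} ⊆
        Finset.univ.filter fun v : F => v ^ q = v ∧ v ^ 2 ≠ 4 := by
      intro v hv
      obtain ⟨hv1, hv2⟩ := Finset.mem_sdiff.1 hv
      refine Finset.mem_filter.2 ⟨Finset.mem_univ _, (Finset.mem_filter.1 hv1).2, fun h => hv2 ?_⟩
      have h4 : (v - 2) * (v + 2) = 0 := by linear_combination h
      rcases mul_eq_zero.1 h4 with h5 | h5
      · simp [sub_eq_zero.1 h5]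
      · simp [eq_neg_of_add_eq_zero_left h5]
    have h4 := Finset.card_le_card h3
    have h5 := Finset.le_card_sdiff ({2, -2} : Finset F) (Finset.univ.filter fun v : F => v ^ q = v)
    rw [h2] at h5
    have h6 := Finset.card_le_two (a := (2 : F)) (b := -2)
    omega
  have h2 : (q + 1) * (q - 2) ≤ (q + 1) * Nat.card {v : F // v ^ q = v ∧ v ^ 2 ≠ 4} :=
    Nat.mul_le_mul_left _ h1
  refine lt_of_lt_of_le ?_ h2
  rcases lt_or_ge q 8 with h3 | h3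
  · interval_cases q <;> decide
  · have h4 : Nat.gcd 4 (q + 1) ≤ 4 := Nat.gcd_le_left _ (by norm_num)
    obtain ⟨r, rfl⟩ : ∃ r, q = r + 2 := ⟨q - 2, by omega⟩
    rw [Nat.add_sub_cancel]
    nlinarith only [h3, h4]

/-- `n = 4`, `q ≥ 4` -/
theorem big_four (hF : Fintype.card F = q ^ 2) (hq : 4 ≤ q) : Big (Cfsg.PSU 4 F q) := by
  have : Finite (Cfsg.SU 4 F q) := Subtype.finite
  obtain ⟨p, hc⟩ := CharP.exists F
  have hp : p.Prime := CharP.char_is_prime F p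
  have hs : IsSimpleGroup (Cfsg.PSU 4 F q) := S0283.result hF _ (by omega) (by omega)
  obtain ⟨f, hf, hf'⟩ := exists_fam4 hF
  obtain ⟨s, h1, h2, h3⟩ := exists_nine (Subgroup.center (Cfsg.SU 4 F q))
    (fun i : {l : F // l * l ^ q = 1} × {v : F // v ^ q = v ∧ v ^ 2 ≠ 4} => f i.1 ⟨i.2.1, i.2.2.1⟩)
    (fun i j hij => by
      have h3 := charpoly_eq_of_isConj hij
      rw [hf, hf] at h3
      obtain ⟨h4, h5⟩ := fam4_inj (left_ne_zero_of_mul_eq_one i.1.2) (left_ne_zero_of_mul_eq_one j.1.2)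
        j.2.2.2 h3
      exact Prod.ext (Subtype.ext h4) (Subtype.ext h5))
    (by
      rw [Cfsg.Agent.S0279.result hF 4 (by norm_num)]
      exact card_index hF hq)
  refine big_of_lie hp (isLie (p := p) hF le_rfl) s h1 (fun g hg => ?_) h2
  obtain ⟨i, rfl⟩ := h3 g hg
  exact hf' p _ _

end Fam

end Cfsg.Agent.H279.ZerosPSU
end

-- part: H279/ZerosPSUExp
section
/-!
# S4895, row `PSU_n(q)`: tools for the explicit cases
-/

set_option autoImplicit false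
open Cfsg

namespace Cfsg.Agent.H279.ZerosPSU

open Matrix Cfsg.Agent.H504.Zeros Cfsg.Agent.H279.ZerosTools
open Cfsg.Agent.LieClassical Cfsg.Agent.H674.SUTools Cfsg.Agent.H674.SUBlock Cfsg.Agent.H674.SteinbergSU
open Cfsg.Agent.H674.Explicit

theorem dvd_of_pow {G : Type*} [Group G] {x : G} {p a m : ℕ} (hp : p.Prime) (h1 : x ^ (p ^ a * m) = 1)
    (h2 : x ^ m ≠ 1) : p ∣ orderOf x := by
  by_contra h
  have h3 : (orderOf x).Coprime (p ^ a) := ((Nat.Prime.coprime_iff_not_dvd hp).2 h).symm.pow_right a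
  exact h2 (orderOf_dvd_iff_pow_eq_one.1 (h3.dvd_of_dvd_mul_left (orderOf_dvd_of_pow_eq_one h1)))

section

variable {F : Type} [Field F] [Fintype F] {n q : ℕ}

/-- conjugacy in `PSU_n(q)` -/
theorem sim_of_pr' (hF : Fintype.card F = q ^ 2) (hn : 3 ≤ n) {x y : Cfsg.SU n F q}
    (h : IsConj (pr x) (pr y)) : ∃ (c : F) (g : Cfsg.SU n F q), c ^ n = 1 ∧ c ^ (q + 1) = 1 ∧
      cm y = c • (cm g * cm x * cm g⁻¹) := by
  obtain ⟨c, h5⟩ := isConj_iff.1 h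
  obtain ⟨g, rfl⟩ := pr_surjective c
  have h6 : pr ((g * x * g⁻¹)⁻¹ * y) = 1 := by
    rw [map_mul, map_inv, map_mul, map_mul, map_inv, h5]
    simp
  rw [pr_eq_one_iff, SUBasic.mem_center_SU_iff hF hn] at h6
  obtain ⟨c, hcn, hcq, h7⟩ := h6
  have h8 : y = (g * x * g⁻¹) * SUBasic.suScalar q c hcn hcq := by
    rw [← h7]; group
  refine ⟨c, g, hcn, hcq, ?_⟩
  rw [h8, map_mul, map_mul, map_mul]
  show _ * Matrix.diagonal (fun _ => c) = _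
  ext a b
  rw [Matrix.mul_diagonal, Matrix.smul_apply, smul_eq_mul, mul_comm]

/-- powers that are not scalar -/
theorem pr_pow_ne (hF : Fintype.card F = q ^ 2) (hn : 3 ≤ n) {x : Cfsg.SU n F q} {m : ℕ}
    (h : ∀ c : F, cm x ^ m ≠ c • (1 : Matrix (Fin n) (Fin n) F)) : pr x ^ m ≠ 1 := by
  intro h1
  rw [← map_pow, pr_eq_one_iff, SUBasic.mem_center_SU_iff hF hn] at h1
  obtain ⟨c, hcn, hcq, h7⟩ := h1
  apply h c
  rw [← map_pow, h7]
  show Matrix.diagonal (fun _ => c) = _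
  rw [Matrix.smul_one_eq_diagonal]

/-- rank at most one -/
def R1 (N : Matrix (Fin n) (Fin n) F) : Prop := ∃ v w : Fin n → F, N = vecMulVec v w

omit [Fintype F] in
theorem R1.conj {N : Matrix (Fin n) (Fin n) F} (h : R1 N) (P Q : Matrix (Fin n) (Fin n) F) :
    R1 (P * N * Q) := by
  obtain ⟨v, w, rfl⟩ := h
  exact ⟨P *ᵥ v, w ᵥ* Q, by rw [Matrix.mul_vecMulVec, Matrix.vecMulVec_mul]⟩

omit [Fintype F] in
theorem not_R1 {N : Matrix (Fin n) (Fin n) F} (i j k l : Fin n) (h : N i k * N j l ≠ N i l * N j k) : ¬ R1 N := by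
  rintro ⟨v, w, rfl⟩
  apply h
  simp only [vecMulVec_apply]
  ring

omit [Fintype F] in
theorem conj_pow3 {P Q M : Matrix (Fin n) (Fin n) F} (h1 : P * Q = 1) (h2 : Q * P = 1) (k : ℕ) :
    (P * M * Q) ^ k = P * M ^ k * Q := by
  induction k with
  | zero => simp [h1]
  | succ k ih =>
    rw [pow_succ, ih, pow_succ]
    calc P * M ^ k * Q * (P * M * Q) = P * M ^ k * (Q * P) * M * Q := by simp only [mul_assoc]
      _ = _ := by rw [h2, mul_one]; simp only [mul_assoc]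

/-- the rank one property of a power is a class function on `PSU` -/
theorem R1_of_pr (hF : Fintype.card F = q ^ 2) (hn : 3 ≤ n) {x y : Cfsg.SU n F q}
    (h : IsConj (pr x) (pr y)) {m : ℕ} (hm : ∀ c : F, c ^ n = 1 → c ^ (q + 1) = 1 → c ^ m = 1)
    (hx : R1 (cm x ^ m - 1)) : R1 (cm y ^ m - 1) := by
  obtain ⟨c, P, Q, h1, h2, h3, h4, h5⟩ := sim_of_pr hF hn h
  rw [h5, smul_pow, hm c h1 h2, one_smul, conj_pow3 h3 h4]
  have h6 : P * cm x ^ m * Q - 1 = P * (cm x ^ m - 1) * Q := by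
    rw [mul_sub, sub_mul, mul_one, h3]
  rw [h6]
  exact hx.conj P Q

end

end Cfsg.Agent.H279.ZerosPSU
end

-- part: H279/ZerosPSU2
section
/-!
# S4895, row `PSU_n(2)`, `n ≥ 4`
-/

set_option autoImplicit false
set_option maxRecDepth 20000
open Cfsg

namespace Cfsg.Agent.H279.ZerosPSU2

open Matrix Cfsg.Agent.H92 Cfsg.Agent.H504.Zeros Cfsg.Agent.H279.ZerosTools Cfsg.Agent.H279.ZerosPSU
open Cfsg.Agent.LieClassical Cfsg.Agent.H674.SUTools Cfsg.Agent.H674.SUBlock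
open Cfsg.Agent.H674.Explicit Cfsg.Agent.H674.ExplicitCases Cfsg.Agent.H674.TwelvePSU

/-- nine elements of `SU_4(2)` -/
def M4 : Fin 9 → Matrix (Fin 4) (Fin 4) F4
  | 0 => !![⟨0, 0⟩, ⟨1, 0⟩, ⟨0, 0⟩, ⟨0, 0⟩; ⟨1, 0⟩, ⟨0, 0⟩, ⟨0, 0⟩, ⟨0, 0⟩; ⟨0, 0⟩, ⟨0, 0⟩, ⟨1, 0⟩, ⟨0, 0⟩; ⟨0, 0⟩, ⟨0, 0⟩, ⟨0, 0⟩, ⟨1, 0⟩]
  | 1 => !![⟨0, 0⟩, ⟨1, 0⟩, ⟨0, 0⟩, ⟨0, 0⟩; ⟨1, 0⟩, ⟨0, 0⟩, ⟨0, 0⟩, ⟨0, 0⟩; ⟨0, 0⟩, ⟨0, 0⟩, ⟨0, 0⟩, ⟨1, 0⟩; ⟨0, 0⟩, ⟨0, 0⟩, ⟨1, 0⟩, ⟨0, 0⟩]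
  | 2 => !![⟨0, 1⟩, ⟨1, 0⟩, ⟨1, 0⟩, ⟨0, 0⟩; ⟨1, 0⟩, ⟨1, 0⟩, ⟨0, 1⟩, ⟨0, 0⟩; ⟨0, 1⟩, ⟨1, 1⟩, ⟨0, 1⟩, ⟨0, 0⟩; ⟨0, 0⟩, ⟨0, 0⟩, ⟨0, 0⟩, ⟨1, 0⟩]
  | 3 => !![⟨0, 0⟩, ⟨1, 0⟩, ⟨0, 0⟩, ⟨0, 0⟩; ⟨0, 0⟩, ⟨0, 0⟩, ⟨1, 0⟩, ⟨0, 0⟩; ⟨0, 0⟩, ⟨0, 0⟩, ⟨0, 0⟩, ⟨1, 0⟩; ⟨1, 0⟩, ⟨0, 0⟩, ⟨0, 0⟩, ⟨0, 0⟩]
  | 4 => !![⟨0, 0⟩, ⟨0, 1⟩, ⟨0, 0⟩, ⟨0, 0⟩; ⟨0, 1⟩, ⟨0, 0⟩, ⟨0, 0⟩, ⟨0, 0⟩; ⟨0, 0⟩, ⟨0, 0⟩, ⟨0, 1⟩, ⟨0, 0⟩; ⟨0, 0⟩, ⟨0, 0⟩, ⟨0, 0⟩, ⟨1, 0⟩]
  | 5 => !![⟨0, 0⟩, ⟨1, 1⟩, ⟨0, 0⟩, ⟨0, 0⟩; ⟨1, 1⟩, ⟨0, 0⟩, ⟨0, 0⟩, ⟨0, 0⟩; ⟨0, 0⟩, ⟨0, 0⟩, ⟨1, 1⟩, ⟨0, 0⟩; ⟨0, 0⟩, ⟨0, 0⟩, ⟨0, 0⟩, ⟨1, 0⟩]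
  | 6 => !![⟨0, 0⟩, ⟨1, 0⟩, ⟨0, 0⟩, ⟨0, 0⟩; ⟨1, 0⟩, ⟨0, 0⟩, ⟨0, 0⟩, ⟨0, 0⟩; ⟨0, 0⟩, ⟨0, 0⟩, ⟨0, 1⟩, ⟨0, 0⟩; ⟨0, 0⟩, ⟨0, 0⟩, ⟨0, 0⟩, ⟨1, 1⟩]
  | 7 => !![⟨0, 0⟩, ⟨0, 1⟩, ⟨0, 0⟩, ⟨0, 0⟩; ⟨0, 1⟩, ⟨0, 0⟩, ⟨0, 0⟩, ⟨0, 0⟩; ⟨0, 0⟩, ⟨0, 0⟩, ⟨1, 1⟩, ⟨0, 0⟩; ⟨0, 0⟩, ⟨0, 0⟩, ⟨0, 0⟩, ⟨1, 1⟩]
  | 8 => !![⟨1, 1⟩, ⟨0, 1⟩, ⟨0, 1⟩, ⟨0, 0⟩; ⟨0, 1⟩, ⟨0, 1⟩, ⟨1, 1⟩, ⟨0, 0⟩; ⟨1, 1⟩, ⟨1, 0⟩, ⟨1, 1⟩, ⟨0, 0⟩; ⟨0, 0⟩, ⟨0, 0⟩, ⟨0, 0⟩, ⟨1, 0⟩]

theorem good_M4 : ∀ i, good 2 (M4 i) = true := by (delta Cfsg.Agent.H674.Explicit.good Cfsg.Agent.H279.ZerosPSU2.M4; set_option synthInstance.maxSize 20000 in open scoped Cfsg.Agent.Lib.MatDec Cfsg.Agent.Lib.MatRng in (simp only [Cfsg.Agent.Lib.MatDec.sw_dec, Cfsg.Agent.Lib.MatDec.sw_ite, Cfsg.Agent.Lib.MatDec.sw_beq, Cfsg.Agent.Lib.MatDec.sw_bne]; decide +kernel))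

/-- their invariants -/
def lab4 : Fin 9 → F4 × List Bool :=
  ![(⟨0, 0⟩, [true, true, true]), (⟨0, 0⟩, [true, true, true]), (⟨0, 0⟩, [false, true, false]),
    (⟨0, 0⟩, [false, true, false]), (⟨1, 1⟩, [false, false, true]), (⟨0, 1⟩, [false, false, true]),
    (⟨1, 0⟩, [false, false, true]), (⟨0, 0⟩, [false, false, true]), (⟨1, 1⟩, [false, false, false])]

theorem inv_M4 : ∀ i, _root_.Cfsg.Agent.H674.Explicit.inv [2, 4, 6] (M4 i) = lab4 i := by (delta Cfsg.Agent.H674.Explicit.inv; set_option synthInstance.maxSize 20000 in open scoped Cfsg.Agent.Lib.MatDec Cfsg.Agent.Lib.MatRng in (simp only [Cfsg.Agent.Lib.MatDec.sw_dec, Cfsg.Agent.Lib.MatDec.sw_ite, Cfsg.Agent.Lib.MatDec.sw_beq, Cfsg.Agent.Lib.MatDec.sw_bne]; decide +kernel))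

theorem lab4_cases : ∀ i j, lab4 i = lab4 j → i = j ∨ (i = 0 ∧ j = 1) ∨ (i = 1 ∧ j = 0) ∨
    (i = 2 ∧ j = 3) ∨ (i = 3 ∧ j = 2) := by
  decide +kernel

theorem pow12_M4 : ∀ i, M4 i ^ 12 = 1 := by
  have h : ∀ i, decide (M4 i ^ 12 = 1) = true := by (set_option synthInstance.maxSize 20000 in open scoped Cfsg.Agent.Lib.MatDec Cfsg.Agent.Lib.MatRng in (simp only [Cfsg.Agent.Lib.MatDec.sw_dec, Cfsg.Agent.Lib.MatDec.sw_ite, Cfsg.Agent.Lib.MatDec.sw_beq, Cfsg.Agent.Lib.MatDec.sw_bne]; decide +kernel))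
  exact fun i => of_decide_eq_true (h i)

theorem nsc_M4 : ∀ i, isSc (M4 i ^ 3) = false := by (delta Cfsg.Agent.H674.Explicit.isSc; set_option synthInstance.maxSize 20000 in open scoped Cfsg.Agent.Lib.MatDec Cfsg.Agent.Lib.MatRng in (simp only [Cfsg.Agent.Lib.MatDec.sw_dec, Cfsg.Agent.Lib.MatDec.sw_ite, Cfsg.Agent.Lib.MatDec.sw_beq, Cfsg.Agent.Lib.MatDec.sw_bne]; decide +kernel))

theorem R1_M40 : R1 (M4 0 ^ 1 - 1) := ⟨![1, 1, 0, 0], ![1, 1, 0, 0], by decide +kernel⟩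

theorem nR1_M41 : ¬ R1 (M4 1 ^ 1 - 1) := not_R1 0 2 0 2 (by decide +kernel)

theorem R1_M42 : R1 (M4 2 ^ 2 - 1) := ⟨![1, 0, ⟨1, 1⟩, 0], ![1, 0, ⟨0, 1⟩, 0], by decide +kernel⟩

theorem nR1_M43 : ¬ R1 (M4 3 ^ 2 - 1) := not_R1 0 1 0 1 (by decide +kernel)

/-- nine elements of `SU_5(2)` -/
def M5 : Fin 9 → Matrix (Fin 5) (Fin 5) F4
  | 0 => !![⟨0, 0⟩, ⟨1, 0⟩, ⟨0, 0⟩, ⟨0, 0⟩, ⟨0, 0⟩; ⟨1, 0⟩, ⟨0, 0⟩, ⟨0, 0⟩, ⟨0, 0⟩, ⟨0, 0⟩; ⟨0, 0⟩, ⟨0, 0⟩, ⟨1, 0⟩, ⟨0, 0⟩, ⟨0, 0⟩; ⟨0, 0⟩, ⟨0, 0⟩, ⟨0, 0⟩, ⟨1, 0⟩, ⟨0, 0⟩; ⟨0, 0⟩, ⟨0, 0⟩, ⟨0, 0⟩, ⟨0, 0⟩, ⟨1, 0⟩]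
  | 1 => !![⟨0, 0⟩, ⟨1, 0⟩, ⟨0, 0⟩, ⟨0, 0⟩, ⟨0, 0⟩; ⟨1, 0⟩, ⟨0, 0⟩, ⟨0, 0⟩, ⟨0, 0⟩, ⟨0, 0⟩; ⟨0, 0⟩, ⟨0, 0⟩, ⟨0, 0⟩, ⟨1, 0⟩, ⟨0, 0⟩; ⟨0, 0⟩, ⟨0, 0⟩, ⟨1, 0⟩, ⟨0, 0⟩, ⟨0, 0⟩; ⟨0, 0⟩, ⟨0, 0⟩, ⟨0, 0⟩, ⟨0, 0⟩, ⟨1, 0⟩]
  | 2 => !![⟨0, 1⟩, ⟨1, 0⟩, ⟨1, 0⟩, ⟨0, 0⟩, ⟨0, 0⟩; ⟨1, 0⟩, ⟨1, 0⟩, ⟨0, 1⟩, ⟨0, 0⟩, ⟨0, 0⟩; ⟨0, 1⟩, ⟨1, 1⟩, ⟨0, 1⟩, ⟨0, 0⟩, ⟨0, 0⟩; ⟨0, 0⟩, ⟨0, 0⟩, ⟨0, 0⟩, ⟨1, 0⟩, ⟨0, 0⟩; ⟨0, 0⟩, ⟨0, 0⟩, ⟨0, 0⟩, ⟨0, 0⟩, ⟨1, 0⟩]
  | 3 => !![⟨0, 0⟩, ⟨1, 0⟩, ⟨0, 0⟩, ⟨0, 0⟩, ⟨0, 0⟩; ⟨0, 0⟩, ⟨0, 0⟩, ⟨1, 0⟩, ⟨0, 0⟩, ⟨0, 0⟩; ⟨0, 0⟩, ⟨0, 0⟩, ⟨0, 0⟩, ⟨1, 0⟩, ⟨0, 0⟩; ⟨1, 0⟩, ⟨0, 0⟩, ⟨0, 0⟩, ⟨0, 0⟩, ⟨0, 0⟩; ⟨0, 0⟩, ⟨0, 0⟩, ⟨0, 0⟩, ⟨0, 0⟩, ⟨1, 0⟩]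
  | 4 => !![⟨0, 0⟩, ⟨1, 0⟩, ⟨0, 0⟩, ⟨0, 0⟩, ⟨0, 0⟩; ⟨1, 0⟩, ⟨0, 0⟩, ⟨0, 0⟩, ⟨0, 0⟩, ⟨0, 0⟩; ⟨0, 0⟩, ⟨0, 0⟩, ⟨0, 1⟩, ⟨0, 0⟩, ⟨0, 0⟩; ⟨0, 0⟩, ⟨0, 0⟩, ⟨0, 0⟩, ⟨1, 1⟩, ⟨0, 0⟩; ⟨0, 0⟩, ⟨0, 0⟩, ⟨0, 0⟩, ⟨0, 0⟩, ⟨1, 0⟩]
  | 5 => !![⟨0, 0⟩, ⟨1, 0⟩, ⟨0, 0⟩, ⟨0, 0⟩, ⟨0, 0⟩; ⟨1, 0⟩, ⟨0, 0⟩, ⟨0, 0⟩, ⟨0, 0⟩, ⟨0, 0⟩; ⟨0, 0⟩, ⟨0, 0⟩, ⟨0, 0⟩, ⟨0, 1⟩, ⟨0, 0⟩; ⟨0, 0⟩, ⟨0, 0⟩, ⟨0, 1⟩, ⟨0, 0⟩, ⟨0, 0⟩; ⟨0, 0⟩, ⟨0, 0⟩, ⟨0, 0⟩, ⟨0, 0⟩, ⟨0, 1⟩]
  | 6 => m8
  | 7 => m12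
  | 8 => m18

/-- their orders -/
def ord5 : Fin 9 → ℕ := ![2, 2, 4, 4, 6, 6, 8, 12, 18]

theorem good_M5 : ∀ i, good 2 (M5 i) = true := by (delta Cfsg.Agent.H674.Explicit.good; set_option synthInstance.maxSize 20000 in open scoped Cfsg.Agent.Lib.MatDec Cfsg.Agent.Lib.MatRng in (simp only [Cfsg.Agent.Lib.MatDec.sw_dec, Cfsg.Agent.Lib.MatDec.sw_ite, Cfsg.Agent.Lib.MatDec.sw_beq, Cfsg.Agent.Lib.MatDec.sw_bne]; decide +kernel))

theorem ordIs_M5 : ∀ i : Fin 6, ordIs (M5 (Fin.castLE (by norm_num) i)) (ord5 (Fin.castLE (by norm_num) i)) = true := by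
  decide +kernel

theorem ordIs_M5' (i : Fin 9) : ordIs (M5 i) (ord5 i) = true := by
  obtain ⟨o1, o2, o3, o4, o5⟩ := ord52
  fin_cases i
  · exact ordIs_M5 0
  · exact ordIs_M5 1
  · exact ordIs_M5 2
  · exact ordIs_M5 3
  · exact ordIs_M5 4
  · exact ordIs_M5 5
  · exact o1
  · exact o3
  · exact o5

/-- a non-zero minor -/
def Mnr {n : ℕ} (N : Matrix (Fin n) (Fin n) F4) (i j k l : Fin n) : Prop := N i k * N j l ≠ N i l * N j k

theorem R1_M50 : R1 (M5 0 ^ 3 - 1) := ⟨![1, 1, 0, 0, 0], ![1, 1, 0, 0, 0], by (set_option synthInstance.maxSize 20000 in open scoped Cfsg.Agent.Lib.MatDec Cfsg.Agent.Lib.MatRng in decide +kernel)⟩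

theorem nR1_M51 : Mnr (M5 1 ^ 3 - 1) 0 2 0 2 := by
  unfold Mnr; decide +kernel

theorem R1_M52 : R1 (M5 2 ^ 6 - 1) := ⟨![1, 0, ⟨1, 1⟩, 0, 0], ![1, 0, ⟨0, 1⟩, 0, 0], by (set_option synthInstance.maxSize 20000 in open scoped Cfsg.Agent.Lib.MatDec Cfsg.Agent.Lib.MatRng in decide +kernel)⟩

theorem nR1_M53 : Mnr (M5 3 ^ 6 - 1) 0 1 0 1 := by
  unfold Mnr; decide +kernel

theorem R1_M54 : R1 (M5 4 ^ 9 - 1) := ⟨![1, 1, 0, 0, 0], ![1, 1, 0, 0, 0], by (set_option synthInstance.maxSize 20000 in open scoped Cfsg.Agent.Lib.MatDec Cfsg.Agent.Lib.MatRng in decide +kernel)⟩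

theorem nR1_M55 : Mnr (M5 5 ^ 9 - 1) 0 2 0 2 := by
  unfold Mnr; (delta Cfsg.Agent.H279.ZerosPSU2.M5; set_option synthInstance.maxSize 20000 in open scoped Cfsg.Agent.Lib.MatDec Cfsg.Agent.Lib.MatRng in decide +kernel)

theorem ord5_cases : ∀ i j, ord5 i = ord5 j → i = j ∨ (i = 0 ∧ j = 1) ∨ (i = 1 ∧ j = 0) ∨
    (i = 2 ∧ j = 3) ∨ (i = 3 ∧ j = 2) ∨ (i = 4 ∧ j = 5) ∨ (i = 5 ∧ j = 4) := by
  decide

/-! ### `n = 4` -/

theorem conj4 {x y : Cfsg.SU 4 F4 2} {i j : Fin 9} (hx : cm x = M4 i) (hy : cm y = M4 j)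
    (h : IsConj (pr x) (pr y)) : i = j := by
  have hcc : ∀ c : F4, c ^ 4 = 1 → c ^ (2 + 1) = 1 → c = 1 := fun c h1 h2 => by
    calc c = c ^ (2 + 1) * c := by rw [h2, one_mul]
      _ = 1 := by rw [← pow_succ, h1]
  obtain ⟨c, P, Q, hc4, hc3, h1, h2, hc⟩ := sim_of_pr h4 (by norm_num) h
  rw [hcc c hc4 hc3, one_smul, hx, hy] at hc
  have h3 : _root_.Cfsg.Agent.H674.Explicit.inv [2, 4, 6] (M4 i) = _root_.Cfsg.Agent.H674.Explicit.inv [2, 4, 6] (M4 j) := by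
    rw [hc, inv_conj _ _ _ _ h1 h2]
  rw [inv_M4, inv_M4] at h3
  have r1 : ∀ m : ℕ, R1 (M4 i ^ m - 1) → R1 (M4 j ^ m - 1) := fun m hm => by
    rw [← hx] at hm
    rw [← hy]
    exact R1_of_pr h4 (by norm_num) h (fun c h1 h2 => by rw [hcc c h1 h2, one_pow]) hm
  have r2 : ∀ m : ℕ, R1 (M4 j ^ m - 1) → R1 (M4 i ^ m - 1) := fun m hm => by
    rw [← hy] at hm
    rw [← hx]
    exact R1_of_pr h4 (by norm_num) h.symm (fun c h1 h2 => by rw [hcc c h1 h2, one_pow]) hm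
  rcases lab4_cases i j h3 with h5 | ⟨rfl, rfl⟩ | ⟨rfl, rfl⟩ | ⟨rfl, rfl⟩ | ⟨rfl, rfl⟩
  · exact h5
  · exact (nR1_M41 (r1 1 R1_M40)).elim
  · exact (nR1_M41 (r2 1 R1_M40)).elim
  · exact (nR1_M43 (r1 2 R1_M42)).elim
  · exact (nR1_M43 (r2 2 R1_M42)).elim

theorem charP4 : CharP F4 2 := by
  have : Fact (Nat.Prime 2) := ⟨Nat.prime_two⟩
  refine charP_of_card_eq_prime_pow (f := 2) ?_
  exact h4

theorem big4 : Big (Cfsg.PSU 4 F4 2) := by
  have hs : IsSimpleGroup (Cfsg.PSU 4 F4 2) := S0283.result h4 _ (by norm_num) (by norm_num)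
  have := charP4
  choose x hx using fun i => exists_of_good h4 (good_M4 i)
  refine big_of_fam (p := 2) (by norm_num) (isLie (p := 2) h4 le_rfl) (fun i => pr (x i))
    (fun i j h => conj4 (hx i) (hx j) h) (fun i => ?_) (by simp)
  refine dvd_of_pow (a := 2) (m := 3) (by norm_num) ?_ (pr_pow_ne h4 (by norm_num) fun c hc => ?_)
  · rw [← map_pow]
    have h1 : x i ^ (2 ^ 2 * 3) = 1 := (cm_pow_eq_one_iff _ _).1 (by rw [hx]; exact pow12_M4 i)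
    rw [h1, map_one]
  · have h1 := nsc_M4 i
    rw [← hx, hc] at h1
    have h2 : isSc (c • (1 : Matrix (Fin 4) (Fin 4) F4)) = true := (isSc_iff _).2 ⟨c, rfl⟩
    rw [h2] at h1
    exact Bool.noConfusion h1

/-! ### `n ≥ 5` -/

theorem pr_ext_inj (k : ℕ) : Function.Injective
    ((pr : Cfsg.SU (5 + k) F4 2 →* Cfsg.PSU (5 + k) F4 2).comp (_root_.Cfsg.Agent.H674.SUBlock.ext h4 k : Cfsg.SU 5 F4 2 →* _)) := by
  rcases Nat.eq_zero_or_pos k with rfl | hk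
  · rw [injective_iff_map_eq_one]
    intro x hx
    obtain ⟨c, hc1, hc2, h1⟩ := (SUBasic.mem_center_SU_iff h4 (by norm_num) _).1 ((pr_eq_one_iff _).1 hx)
    have hc : c = 1 := by
      calc c = (c ^ (2 + 1)) ^ 2 * c⁻¹ ^ 5 := by
            have hc0 : c ≠ 0 := by
              rintro rfl
              rw [zero_pow (by norm_num)] at hc1
              exact zero_ne_one hc1
            field_simp
            ring
        _ = 1 := by
            rw [hc2, one_pow, one_mul, inv_pow, show c ^ 5 = 1 from hc1, inv_one]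
    have h2 : blk (cm x) (1 : Matrix (Fin 0) (Fin 0) F4) = Matrix.diagonal (fun _ => c) := congrArg cm h1
    rw [hc] at h2
    have h5 : (Matrix.diagonal (fun _ => (1 : F4)) : Matrix (Fin (5 + 0)) (Fin (5 + 0)) F4) = 1 :=
      Matrix.diagonal_one
    rw [h5, ← blk_one] at h2
    rw [← cm_eq_one_iff]
    exact (blk_inj h2).1
  · exact pr_ext_injective h4 (by omega) hk

theorem blk_pow_sub {k : ℕ} (A : Matrix (Fin 5) (Fin 5) F4) (m : ℕ) :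
    blk A (1 : Matrix (Fin k) (Fin k) F4) ^ m - 1 = blk (A ^ m - 1) 0 := by
  have h1 : ∀ m : ℕ, blk A (1 : Matrix (Fin k) (Fin k) F4) ^ m = blk (A ^ m) 1 := by
    intro m
    induction m with
    | zero => rw [pow_zero, pow_zero, blk_one]
    | succ m ih => rw [pow_succ, ih, ← blk_mul, one_mul, ← pow_succ]
  rw [h1, ← blk_one]
  unfold blk
  refine Matrix.ext fun i j => ?_
  simp only [Matrix.sub_apply, Matrix.reindex_apply, Matrix.submatrix_apply]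
  rcases finSumFinEquiv.symm i with i | i <;> rcases finSumFinEquiv.symm j with j | j <;> simp

theorem R1_blk {k : ℕ} {N : Matrix (Fin 5) (Fin 5) F4} (h : R1 N) : R1 (blk N (0 : Matrix (Fin k) (Fin k) F4)) := by
  obtain ⟨v, w, rfl⟩ := h
  refine ⟨fun i => Sum.elim v (0 : Fin k → F4) (finSumFinEquiv.symm i),
    fun i => Sum.elim w (0 : Fin k → F4) (finSumFinEquiv.symm i), ?_⟩
  unfold blk
  refine Matrix.ext fun i j => ?_
  simp only [Matrix.reindex_apply, Matrix.submatrix_apply, vecMulVec_apply]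
  rcases finSumFinEquiv.symm i with i | i <;> rcases finSumFinEquiv.symm j with j | j <;>
    simp [vecMulVec_apply]

theorem nR1_blk {k : ℕ} {N : Matrix (Fin 5) (Fin 5) F4} {i j a b : Fin 5} (h : Mnr N i j a b) :
    ¬ R1 (blk N (0 : Matrix (Fin k) (Fin k) F4)) := by
  refine not_R1 (Fin.castAdd k i) (Fin.castAdd k j) (Fin.castAdd k a) (Fin.castAdd k b) ?_
  rw [blk_castAdd, blk_castAdd, blk_castAdd, blk_castAdd]
  exact h

theorem conj5 {k : ℕ} {x y : Cfsg.SU 5 F4 2} {i j : Fin 9} (hx : cm x = M5 i) (hy : cm y = M5 j)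
    (hxo : orderOf x = ord5 i) (hyo : orderOf y = ord5 j)
    (h : IsConj (pr (_root_.Cfsg.Agent.H674.SUBlock.ext h4 k x)) (pr (_root_.Cfsg.Agent.H674.SUBlock.ext h4 k y))) : i = j := by
  have h1 : ord5 i = ord5 j := by
    have h2 := KTools.orderOf_eq_of_isConj h
    have h3 : ∀ z : Cfsg.SU 5 F4 2, orderOf (pr (_root_.Cfsg.Agent.H674.SUBlock.ext h4 k z)) = orderOf z := fun z =>
      orderOf_injective _ (pr_ext_inj k) z
    rw [h3, h3] at h2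
    rw [← hxo, ← hyo, h2]
  have hcc : ∀ (m : ℕ) (c : F4), c ^ (5 + k) = 1 → c ^ (2 + 1) = 1 → c ^ (3 * m) = 1 := fun m c _ h2 => by
    rw [pow_mul]
    have h3 : c ^ 3 = 1 := h2
    rw [h3, one_pow]
  have r1 : ∀ m : ℕ, R1 (M5 i ^ (3 * m) - 1) → R1 (blk (M5 j ^ (3 * m) - 1) (0 : Matrix (Fin k) (Fin k) F4)) := by
    intro m hm
    have h2 := R1_of_pr h4 (by omega) h (hcc m) (by
      rw [cm_ext, hx, blk_pow_sub]
      exact R1_blk hm)
    rwa [cm_ext, hy, blk_pow_sub] at h2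
  have r2 : ∀ m : ℕ, R1 (M5 j ^ (3 * m) - 1) → R1 (blk (M5 i ^ (3 * m) - 1) (0 : Matrix (Fin k) (Fin k) F4)) := by
    intro m hm
    have h2 := R1_of_pr h4 (by omega) h.symm (hcc m) (by
      rw [cm_ext, hy, blk_pow_sub]
      exact R1_blk hm)
    rwa [cm_ext, hx, blk_pow_sub] at h2
  rcases ord5_cases i j h1 with h5 | ⟨rfl, rfl⟩ | ⟨rfl, rfl⟩ | ⟨rfl, rfl⟩ | ⟨rfl, rfl⟩ | ⟨rfl, rfl⟩ | ⟨rfl, rfl⟩
  · exact h5
  · exact (nR1_blk nR1_M51 (r1 1 R1_M50)).elim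
  · exact (nR1_blk nR1_M51 (r2 1 R1_M50)).elim
  · exact (nR1_blk nR1_M53 (r1 2 R1_M52)).elim
  · exact (nR1_blk nR1_M53 (r2 2 R1_M52)).elim
  · exact (nR1_blk nR1_M55 (r1 3 R1_M54)).elim
  · exact (nR1_blk nR1_M55 (r2 3 R1_M54)).elim

theorem ord_of {n : ℕ} {M : Matrix (Fin n) (Fin n) F4} {N : ℕ} (hN : 0 < N) (h2 : ordIs M N = true) :
    orderOf M = N := by
  rw [ordIs, Bool.and_eq_true, decide_eq_true_eq, decide_eq_true_eq] at h2
  rw [orderOf_eq_iff hN]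
  exact h2

theorem ord5_pos : ∀ i, 0 < ord5 i ∧ 2 ∣ ord5 i := by decide

theorem big5 (k : ℕ) : Big (Cfsg.PSU (5 + k) F4 2) := by
  have hs : IsSimpleGroup (Cfsg.PSU (5 + k) F4 2) := S0283.result h4 _ (by omega) (by omega)
  have := charP4
  choose x hx using fun i => exists_of_good h4 (good_M5 i)
  have ho : ∀ i, orderOf (x i) = ord5 i := fun i => by
    rw [← orderOf_cm, hx, ord_of (ord5_pos i).1 (ordIs_M5' i)]
  refine big_of_fam (p := 2) (by norm_num) (isLie (p := 2) h4 (by omega)) (fun i => pr (_root_.Cfsg.Agent.H674.SUBlock.ext h4 k (x i)))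
    (fun i j h => conj5 (hx i) (hx j) (ho i) (ho j) h) (fun i => ?_) (by simp)
  have h3 : orderOf (pr (_root_.Cfsg.Agent.H674.SUBlock.ext h4 k (x i))) = orderOf (x i) := orderOf_injective _ (pr_ext_inj k) (x i)
  rw [h3, ho]
  exact (ord5_pos i).2

/-- `PSU_n(2)`, `n ≥ 4` -/
theorem big_psu2 {F : Type} [Field F] [Fintype F] (hF : Fintype.card F = 2 ^ 2) {n : ℕ} (hn : 4 ≤ n) :
    Big (Cfsg.PSU n F 2) := by
  refine Big.of_equiv (FieldTransfer.psuCongr n 2 (FiniteField.ringEquivOfCardEq (hF.trans h4.symm))) ?_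
  rcases Nat.eq_or_lt_of_le hn with rfl | hn
  · exact big4
  · obtain ⟨k, rfl⟩ := Nat.exists_eq_add_of_le hn
    exact big5 k

end Cfsg.Agent.H279.ZerosPSU2
end

private theorem dce_0c27941505ae : _root_.True := by
  try have : _root_.True := by simp only [_root_.Cfsg.Agent.H279.ZerosPSU.h3.congr_simp]
  try have : _root_.True := by simp only [_root_.Cfsg.Agent.H279.ZerosPSU.h3.eq_1]
  exact _root_.True.intro
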